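import Cfsg.Agent.Lib.ReeF4Square.Levi

/-!
2F4(q): Gauss decompositions with a prescribed torus part modulo the pair, and cells of conjugates.
-/

set_option autoImplicit false
set_option linter.unusedSectionVars false
set_option maxRecDepth 4000

namespace CfsgLib.ReeF4Square

open Cfsg.Lie CfsgLib.Chev CfsgLib.ReeF4 CfsgLib.ReeF4Out CfsgLib.SteinbergTwo
open CfsgLib.ChevAut (Up Um)
open scoped MatrixGroups

variable {K : Type*} [Field K] [Fintype K] {m : ℕ} {σ : MulAut ↥(chevF4.group K)}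

/-- the alternating word with `k` orbit letters ending with `b` -/
def WT : Bool → ℕ → List (Fin chevF4.rank)
  | _, 0 => []
  | b, k + 1 => WT (!b) k ++ jl b

/-- the letter that extends such a word on the left -/
def lead : Bool → ℕ → Bool
  | b, 0 => b
  | b, k + 1 => lead (!b) k

theorem wt_revW : ∀ s : Bool, ∀ k : Fin 9, revW s k = WT s k := by decide +kernel

theorem wt_eight : ∀ r : Fin 48, sigs chevF4 tb (WT true 8) r = sigs chevF4 tb (WT false 8) r := by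
  decide +kernel

theorem wt_asc : ∀ b : Bool, ∀ k : Fin 8, ∀ r : Fin 48, JRoot (!b) r →
    24 ≤ sigs chevF4 tb (WT b k) r := by
  unfold JRoot InvRoot; decide +kernel

theorem wt_keep : ∀ k : Fin 6, ∀ r : Fin 48, JRoot false r →
    KeepP (sigs chevF4 tb (WT true (k + 1)) r) := by
  unfold JRoot InvRoot KeepP KeepRoot; decide +kernel

theorem wt_seven : sigs chevF4 tb (WT true 7) f4p1 = f4p1 ∧ sigs chevF4 tb (WT true 7) f4p4 = f4p4 := by
  decide +kernel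

/-- the diagonal matrices -/
noncomputable def Dm (t : Kˣ) : SL(2, K) :=
  img K (true, (t : K)) * img K (false, (t : K)⁻¹) * img K (true, (t : K)) * JJ K

section
variable (hσ : IsSigma m σ)
include hσ

/-- the monomial element of an alternating word -/
noncomputable def wn : Bool → ℕ → ↥(G1 K m)
  | _, 0 => 1
  | b, k + 1 => wn (!b) k * ng hσ b

/-- membership in a double coset -/
def Cell (b : Bool) (k : ℕ) (g : ↥(G1 K m)) : Prop :=
  ∃ b₁ ∈ Bw K m, ∃ b₂ ∈ Bw K m, g = b₁ * wn hσ b k * b₂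

/-- `U g` meets `V h U` -/
def Dec (g h : ↥(G1 K m)) : Prop :=
  ∃ u ∈ Uw K m, ∃ v ∈ Vw K m, ∃ u₁ ∈ Uw K m, u * g = v * h * u₁

theorem coe_wn : ∀ (k : ℕ) (b : Bool), (wn hσ b k : GL chevF4.Idx K) = nProd chevF4 K (WT b k)
  | 0, b => by simp [wn, WT, nProd_nil]
  | k + 1, b => by
    rw [wn, Subgroup.coe_mul, coe_wn k, WT, nProd_append]
    rfl

theorem asc (b : Bool) {k : ℕ} (hk : k < 8) {a : ↥(G1 K m)} (ha : a ∈ Xs σ m (!b)) :
    wn hσ b k * a * (wn hσ b k)⁻¹ ∈ Uw K m := by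
  show (wn hσ b k : GL chevF4.Idx K) * a.1 * (wn hσ b k : GL chevF4.Idx K)⁻¹ ∈ Up chevF4 K
  rw [coe_wn hσ]
  exact conj_nProd_uGen _ (fun r hr h => wt_asc b ⟨k, hk⟩ ⟨r, hr⟩ h)
    (Subgroup.mem_inf.1 (Subgroup.mem_subgroupOf.1 ha)).1

theorem H_comm {a b : ↥(G1 K m)} (ha : a ∈ Hw K m) (hb : b ∈ Hw K m) : a * b = b * a := by
  obtain ⟨c, e⟩ := (mem_diagonal hc).1 (Subgroup.mem_subgroupOf.1 ha)
  obtain ⟨d, e'⟩ := (mem_diagonal hc).1 (Subgroup.mem_subgroupOf.1 hb)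
  apply Subtype.ext
  rw [Subgroup.coe_mul, Subgroup.coe_mul, ← e, ← e', ← map_mul, ← map_mul, ← map_mul, ← map_mul, mul_comm c]

theorem pgF_mem_V (t : K) : pg hσ false t ∈ Vw K m := by
  have := ng_conj_Xs hσ (s := false) (x := pg hσ true t) (pgv_pos_mem hσ t)
  rwa [ng_conj_pg] at this

theorem qgF_mem_V (x u : K) : qg hσ false x u ∈ Vw K m := by
  have := ng_conj_Xs hσ (s := true) (x := qg hσ true x u) (qgv_pos_mem hσ x u)
  rwa [ng_conj_qg] at this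

theorem Dec.one : Dec (1 : ↥(G1 K m)) 1 := ⟨1, one_mem _, 1, one_mem _, 1, one_mem _, by group⟩

theorem Dec.left {g h : ↥(G1 K m)} (d : Dec g h) {h0 : ↥(G1 K m)} (hh : h0 ∈ Hw K m) :
    Dec (h0 * g) (h0 * h) := by
  obtain ⟨u, hu, v, hv, u₁, hu₁, e⟩ := d
  refine ⟨h0 * u * h0⁻¹, (H_conj hσ hh u).1.2 hu, h0 * v * h0⁻¹, (H_conj hσ hh v).2.2 hv, u₁, hu₁, ?_⟩
  calc h0 * u * h0⁻¹ * (h0 * g) = h0 * (u * g) := by group
    _ = _ := by rw [e]; group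

/-- appending a letter -/
theorem Dec.step {g h : ↥(G1 K m)} (d : Dec g h) (hh : h ∈ Hw K m) (s : Bool)
    (hasc : ∀ a ∈ Xs σ m s, g * a * g⁻¹ ∈ Uw K m) {x y k x' : ↥(G1 K m)} (hx : x ∈ Xs σ m s)
    (hy : y ∈ Vw K m) (hx' : x' ∈ Uw K m) (e : x * ng hσ s = y * k * x') :
    Dec (g * ng hσ s) (h * k) := by
  obtain ⟨u, hu, v, hv, u₁, hu₁, ed⟩ := d
  obtain ⟨a, ha, r, hr, ea, hrn⟩ := U_split hσ s (mul_mem (inv_mem hu₁) (Xs_le_U hσ s hx))
  refine ⟨u * (g * a * g⁻¹), mul_mem hu (hasc a ha), v * (h * y * h⁻¹), mul_mem hv ((H_conj hσ hh y).2.2 hy),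
    x' * ((ng hσ s)⁻¹ * r * ng hσ s)⁻¹, mul_mem hx' (inv_mem hrn), ?_⟩
  calc u * (g * a * g⁻¹) * (g * ng hσ s) = (u * g) * a * ng hσ s := by group
    _ = v * h * (u₁ * a) * ng hσ s := by rw [ed]; group
    _ = v * h * (x * r⁻¹) * ng hσ s := by rw [show a = u₁⁻¹ * x * r⁻¹ by rw [ea]; group]; group
    _ = v * h * (x * ng hσ s) * ((ng hσ s)⁻¹ * r * ng hσ s)⁻¹ := by group
    _ = _ := by rw [e]; group

theorem hA_phi {φ : SL(2, K) →* ↥(G1 K m)} (hφ : ∀ b t, φ (img K (b, t)) = pg hσ b t) (t : Kˣ) :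
    hA hσ t = φ (Dm t) := by
  simp only [Dm, JJ, map_mul, hφ, hA, NP, inv_one]

theorem coe_Dm (t : Kˣ) : (Dm t).1 = !![(t : K), 0; 0, (t : K)⁻¹] := by
  simp only [Dm, JJ, Matrix.SpecialLinearGroup.coe_mul, coe_img]
  ext i j
  fin_cases i <;> fin_cases j <;>
    simp [Matrix.mul_apply, Fin.sum_univ_two, t.ne_zero, add_self hσ]

theorem pg_cell {φ : SL(2, K) →* ↥(G1 K m)} (hφ : ∀ b t, φ (img K (b, t)) = pg hσ b t) (a : Kˣ) :
    pg hσ true (a : K) * ng hσ false = pg hσ false (a : K)⁻¹ * hA hσ a * pg hσ true (a : K)⁻¹ := by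
  have hJ : φ (JJ K) = ng hσ false := by rw [JJ, map_mul, map_mul, hφ, hφ, ng_false_eq, NP, inv_one]
  rw [hA_phi hσ hφ, ← hφ, ← hφ, ← hφ, ← hJ, ← map_mul, ← map_mul, ← map_mul]
  congr 1
  apply Subtype.ext
  simp only [Matrix.SpecialLinearGroup.coe_mul, coe_Dm hσ, JJ, coe_img]
  ext i j
  fin_cases i <;> fin_cases j <;>
    simp [Matrix.mul_apply, Fin.sum_univ_two, a.ne_zero, add_self hσ]

theorem qg_cell (t : Kˣ) : ∃ x ∈ Xs σ m true, ∃ y ∈ Vw K m, ∃ x' ∈ Uw K m,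
    x * ng hσ true = y * (hA hσ t * (hB hσ t)⁻¹) * x' := by
  set n := ng hσ true
  set d := hA hσ t
  set x0 := (qg hσ true (1 : K) 0)⁻¹
  have hd := hA_mem_H hσ t
  have hB' : hB hσ t ∈ Hw K m := N_conj_H hσ (ng_mem_N hσ true) hd
  have e0 : x0 * n = qg hσ false 0 1 * qg hσ true 1 1 := by
    show (qg hσ true (1 : K) 0)⁻¹ * ng hσ true = _
    rw [ng_true_eq]; group
  have hcn : n⁻¹ * d * n = hB hσ t := by
    show n⁻¹ * d * n = n * d * n⁻¹
    calc n⁻¹ * d * n = n⁻¹ * (d * (n * n)) * n⁻¹ := by group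
      _ = n⁻¹ * (n * n * d) * n⁻¹ := by rw [H_comm hσ hd (ReeF4Out.ng_sq hσ true)]
      _ = n * d * n⁻¹ := by group
  refine ⟨d * x0 * d⁻¹, ?_, d * qg hσ false 0 1 * d⁻¹, (H_conj hσ hd _).2.2 (qgF_mem_V hσ 0 1),
    hB hσ t * qg hσ true 1 1 * (hB hσ t)⁻¹, (H_conj hσ hB' _).1.2 (qg_mem_U hσ 1 1), ?_⟩
  · show (d : GL chevF4.Idx K) * (x0 : GL chevF4.Idx K) * (d : GL chevF4.Idx K)⁻¹ ∈ V σ (JRoot true)
    refine Subgroup.mem_inf.2 ⟨diag_conj_mem hc _ (Subgroup.mem_subgroupOf.1 hd)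
      (inv_mem (Subgroup.mem_inf.1 (qgv_pos_mem hσ 1 0)).1), ?_⟩
    exact G1_le_fix hσ (d * x0 * d⁻¹).2
  · calc d * x0 * d⁻¹ * n = d * (x0 * n) * (n⁻¹ * d * n)⁻¹ := by group
      _ = _ := by rw [e0, hcn]; group

/-- every torus element in the form used for covering -/
theorem H_form {h : ↥(G1 K m)} (hh : h ∈ Hw K m) :
    ∃ t s : Kˣ, h = hA hσ t * (hB hσ t)⁻¹ * hA hσ s := by
  classical
  have hmem : ∀ p : Kˣ × Kˣ, hA hσ p.1 * (hB hσ p.1)⁻¹ * hA hσ p.2 ∈ Hw K m := fun p =>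
    mul_mem (mul_mem (hA_mem_H hσ _) (inv_mem (N_conj_H hσ (ng_mem_N hσ true) (hA_mem_H hσ _)))) (hA_mem_H hσ _)
  have hcard : Nat.card ↥(Hw K m) = (Fintype.card K - 1) ^ 2 := by
    rw [← card_diag hσ, fix_eq hσ]
    exact Nat.card_congr
      { toFun := fun x => ⟨(x : ↥(G1 K m)).1, Subgroup.mem_subgroupOf.1 x.2, (x : ↥(G1 K m)).2⟩
        invFun := fun x => ⟨⟨x.1, x.2.2⟩, Subgroup.mem_subgroupOf.2 x.2.1⟩
        left_inv := fun _ => rfl
        right_inv := fun _ => rfl }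
  have hHB : ∀ t, hB hσ t ∈ Hw K m := fun t => N_conj_H hσ (ng_mem_N hσ true) (hA_mem_H hσ t)
  suffices hinj : Function.Injective (fun p : Kˣ × Kˣ => (⟨_, hmem p⟩ : ↥(Hw K m))) by
    obtain ⟨p, hp⟩ := (hinj.bijective_of_nat_card_le (by
      rw [hcard, Nat.card_prod, Nat.card_eq_fintype_card, Fintype.card_units, pow_two])).2 ⟨h, hh⟩
    exact ⟨p.1, p.2, (congrArg Subtype.val hp).symm⟩
  rintro ⟨t, s⟩ ⟨t', s'⟩ e
  have e1 : hA hσ t * (hB hσ t)⁻¹ * hA hσ s = hA hσ t' * (hB hσ t')⁻¹ * hA hσ s' := congrArg Subtype.val e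
  have e2 : hA hσ t * hA hσ s * hB hσ t' = hA hσ t' * hA hσ s' * hB hσ t := by
    have c1 := H_comm hσ (inv_mem (hHB t)) (hA_mem_H hσ s)
    have c2 := H_comm hσ (inv_mem (hHB t')) (hA_mem_H hσ s')
    rw [mul_assoc, c1, ← mul_assoc, mul_assoc (hA hσ t'), c2, ← mul_assoc, mul_inv_eq_iff_eq_mul] at e1
    rw [e1, mul_assoc (hA hσ t' * hA hσ s' * (hB hσ t')⁻¹), H_comm hσ (hHB t) (hHB t')]
    group
  have hconj : ∀ a b c x : ↥(G1 K m), a * b * c * x * (a * b * c)⁻¹ =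
      a * (b * (c * x * c⁻¹) * b⁻¹) * a⁻¹ := fun a b c x => by group
  have hp := congrArg (fun g => g * pg hσ true 1 * g⁻¹) e2
  simp only [hconj, hB_pg hσ, hA_pg hσ] at hp
  have hq := congrArg (fun g => g * qg hσ true 1 0 * g⁻¹) e2
  simp only [hconj, hB_qg hσ, hA_qg hσ] at hq
  have h1 := pg_inj hσ hp
  have h2 := (qg_inj hσ hq).1
  simp only [cond_true, mul_one, zpow_ofNat, zpow_neg] at h1 h2
  set a : K := (t : K); set b : K := (s : K); set a' : K := (t' : K); set b' : K := (s' : K)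
  have na : a ≠ 0 := t.ne_zero; have nb : b ≠ 0 := s.ne_zero
  have na' : a' ≠ 0 := t'.ne_zero; have nb' : b' ≠ 0 := s'.ne_zero
  have nta : a ^ 2 ^ m ≠ 0 := pow_ne_zero _ na
  have nta' : a' ^ 2 ^ m ≠ 0 := pow_ne_zero _ na'
  have h2' : a' * a' * b' = a * a * b := by field_simp at h2; linear_combination h2
  have h1' : (a * b * a ^ 2 ^ m) ^ 2 = (a' * b' * a' ^ 2 ^ m) ^ 2 := by field_simp at h1; linear_combination h1
  have h3 : a * b * a ^ 2 ^ m = a' * b' * a' ^ 2 ^ m := by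
    have : (a * b * a ^ 2 ^ m - a' * b' * a' ^ 2 ^ m) ^ 2 = 0 := by
      linear_combination h1' + ((a' * b' * a' ^ 2 ^ m) ^ 2 - a * b * a ^ 2 ^ m * (a' * b' * a' ^ 2 ^ m)) * hσ.char2
    exact sub_eq_zero.1 ((pow_eq_zero_iff two_ne_zero).1 this)
  have h4 : (a / a') ^ 2 ^ m = a / a' := by
    rw [div_pow, div_eq_div_iff nta' na']
    refine mul_left_cancel₀ (mul_ne_zero na nb) ?_
    linear_combination a' * h3 + a' ^ 2 ^ m * h2'
  rcases theta_fix hσ h4 with h | h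
  · exact absurd h (div_ne_zero na na')
  · have hta : a = a' := by rwa [div_eq_one_iff_eq na'] at h
    obtain rfl : t = t' := Units.ext hta
    obtain rfl : s = s' := Units.ext (mul_left_cancel₀ (mul_ne_zero na na) h2'.symm)
    rfl

theorem dec_zero : ∀ (k : ℕ) (b : Bool), k ≤ 8 → Dec (wn hσ b k) 1
  | 0, _, _ => Dec.one hσ
  | k + 1, b, hk => by
    have d := dec_zero k (!b) (by omega)
    have ha : ∀ a ∈ Xs σ m b, wn hσ (!b) k * a * (wn hσ (!b) k)⁻¹ ∈ Uw K m := fun a h =>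
      asc hσ (!b) (by omega) (by simpa using h)
    show Dec (wn hσ (!b) k * ng hσ b) 1
    cases b
    · obtain ⟨φ, hφ⟩ := exists_phi hσ
      have e := pg_cell hσ hφ 1
      have h1 : hA hσ (1 : Kˣ) = 1 := by rw [hA, Units.val_one, NP_sq]
      have d2 := d.step hσ (one_mem _) false ha (pgv_pos_mem hσ _) (pgF_mem_V hσ _) (pg_mem_U hσ _) e
      rwa [h1, one_mul] at d2
    · have e : (qg hσ true (1 : K) 0)⁻¹ * ng hσ true = qg hσ false 0 1 * 1 * qg hσ true 1 1 := by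
        rw [ng_true_eq]; group
      have d2 := d.step hσ (one_mem _) true ha
        (inv_mem (show qg hσ true (1 : K) 0 ∈ Xs σ m true from qgv_pos_mem hσ 1 0)) (qgF_mem_V hσ 0 1) (qg_mem_U hσ 1 1) e
      rwa [one_mul] at d2

/-- torus part in the pair, for words ending with the quadruple -/
theorem dec_true {k : ℕ} (hk : k < 8) {h0 : ↥(G1 K m)} (h0H : h0 ∈ Hw K m) :
    ∃ s : Kˣ, Dec (h0 * wn hσ true (k + 1)) (hA hσ s) := by
  obtain ⟨φ, hφ⟩ := exists_phi hσ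
  obtain ⟨t, s, e⟩ := H_form hσ (inv_mem h0H)
  obtain ⟨x, hx, y, hy, x', hx', ex⟩ := qg_cell hσ t
  have d := (dec_zero hσ k false (by omega)).left hσ h0H
  have ha : ∀ a ∈ Xs σ m true, h0 * wn hσ false k * a * (h0 * wn hσ false k)⁻¹ ∈ Uw K m := fun a h => by
    rw [show h0 * wn hσ false k * a * (h0 * wn hσ false k)⁻¹ =
      h0 * (wn hσ false k * a * (wn hσ false k)⁻¹) * h0⁻¹ by group]
    exact (H_conj hσ h0H _).1.2 (asc hσ false hk h)
  have d2 := d.step hσ (mul_mem h0H (one_mem _)) true ha hx hy hx' ex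
  refine ⟨s⁻¹, ?_⟩
  have es : hA hσ s⁻¹ = (hA hσ s)⁻¹ := by
    rw [hA_phi hσ hφ, hA_phi hσ hφ, ← map_inv]
    congr 1
    refine eq_inv_of_mul_eq_one_left (Subtype.ext ?_)
    rw [Matrix.SpecialLinearGroup.coe_mul, coe_Dm hσ, coe_Dm hσ]
    ext i j; fin_cases i <;> fin_cases j <;> simp [Matrix.mul_apply, Fin.sum_univ_two, s.ne_zero]
  have : h0 * 1 * (hA hσ t * (hB hσ t)⁻¹) = hA hσ s⁻¹ := by
    rw [es, ← inv_inv h0, e]; group
  rw [this, mul_assoc] at d2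
  exact d2

/-- prescribed torus part in the pair, for the word of length seven -/
theorem dec_seven (s : Kˣ) {h0 : ↥(G1 K m)} (h0H : h0 ∈ Hw K m) :
    Dec (h0 * wn hσ true 7) (hA hσ s) := by
  obtain ⟨φ, hφ⟩ := exists_phi hσ
  obtain ⟨t, s0, e⟩ := H_form hσ (inv_mem h0H)
  obtain ⟨x, hx, y, hy, x', hx', ex⟩ := qg_cell hσ t
  set a : Kˣ := s * s0
  have ha : ∀ a ∈ Xs σ m false, wn hσ true 5 * a * (wn hσ true 5)⁻¹ ∈ Uw K m := fun a h =>
    asc hσ true (by omega) h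
  have d5 := (dec_zero hσ 5 true (by omega)).step hσ (one_mem _) false ha (pgv_pos_mem hσ _)
    (pgF_mem_V hσ _) (pg_mem_U hσ _) (pg_cell hσ hφ a)
  have hA' : 1 * hA hσ a ∈ Hw K m := mul_mem (one_mem _) (hA_mem_H hσ a)
  have d := d5.left hσ h0H
  have hb : ∀ z ∈ Xs σ m true, h0 * (wn hσ true 5 * ng hσ false) * z * (h0 * (wn hσ true 5 * ng hσ false))⁻¹
      ∈ Uw K m := fun z h => by
    rw [show h0 * (wn hσ true 5 * ng hσ false) * z * (h0 * (wn hσ true 5 * ng hσ false))⁻¹ =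
      h0 * (wn hσ false 6 * z * (wn hσ false 6)⁻¹) * h0⁻¹ by rw [show wn hσ false 6 = wn hσ true 5 * ng hσ false from rfl]; group]
    exact (H_conj hσ h0H _).1.2 (asc hσ false (by omega) h)
  have d2 := d.step hσ (mul_mem h0H hA') true hb hx hy hx' ex
  have eD : hA hσ a = hA hσ s * hA hσ s0 := by
    rw [hA_phi hσ hφ, hA_phi hσ hφ, hA_phi hσ hφ, ← map_mul]
    congr 1
    apply Subtype.ext
    rw [Matrix.SpecialLinearGroup.coe_mul, coe_Dm hσ, coe_Dm hσ, coe_Dm hσ]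
    ext i j; fin_cases i <;> fin_cases j <;> simp [a, Matrix.mul_apply, Fin.sum_univ_two, mul_inv, mul_comm]
  have hT : hA hσ t * (hB hσ t)⁻¹ ∈ Hw K m :=
    mul_mem (hA_mem_H hσ t) (inv_mem (N_conj_H hσ (ng_mem_N hσ true) (hA_mem_H hσ t)))
  have : h0 * (1 * hA hσ a) * (hA hσ t * (hB hσ t)⁻¹) = hA hσ s := by
    rw [one_mul, eD, mul_assoc, mul_assoc, H_comm hσ (hA_mem_H hσ s0) hT, ← e,
      H_comm hσ (hA_mem_H hσ s) (inv_mem h0H), mul_inv_cancel_left]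
  rw [this, mul_assoc] at d2
  exact d2

variable {P : Cfsg.BNPair ↥(G1 K m)} (hP : HasBN hσ P)

theorem cell_step {b : Bool} {k : ℕ} (hk : k < 8) {g : ↥(G1 K m)} (hg : Cell hσ b k g)
    {β : ↥(G1 K m)} (hβ : β ∈ Bw K m) : Cell hσ (!b) (k + 1) (g * β * ng hσ (!b)) := by
  obtain ⟨b₁, hb₁, b₂, hb₂, rfl⟩ := hg
  obtain ⟨a, ha, c, hc', e⟩ := cell_form hσ (!b) (mul_mem hb₂ hβ) (one_mem _)
  refine ⟨b₁ * (wn hσ b k * a * (wn hσ b k)⁻¹), mul_mem hb₁ (U_le_B hσ (asc hσ b hk ha)), c, hc', ?_⟩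
  rw [show wn hσ (!b) (k + 1) = wn hσ (!!b) k * ng hσ (!b) from rfl, Bool.not_not]
  rw [mul_one] at e
  calc b₁ * wn hσ b k * b₂ * β * ng hσ (!b) = b₁ * wn hσ b k * (b₂ * β * ng hσ (!b)) := by group
    _ = _ := by rw [e]; group

theorem cell_lead : ∀ (k : ℕ) (b : Bool), k < 8 → ∀ β ∈ Bw K m,
    Cell hσ b (k + 1) (ng hσ (lead b k) * β * wn hσ b k)
  | 0, b, _, β, hβ => ⟨1, one_mem _, β, hβ, by simp [wn, lead]⟩
  | k + 1, b, hk, β, hβ => by
    have h := cell_step hσ hk (cell_lead k (!b) (by omega) β hβ) (one_mem (Bw K m))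
    rw [Bool.not_not, mul_one] at h
    rwa [show lead b (k + 1) = lead (!b) k from rfl, show wn hσ b (k + 1) = wn hσ (!b) k * ng hσ b from rfl,
      ← mul_assoc]

include hP in
theorem cell_lead_double (k : ℕ) (b : Bool) (hk : k < 8) {β : ↥(G1 K m)} (hβ : β ∈ Bw K m) :
    Cell hσ b k (ng hσ (lead b k) * β * ng hσ (lead b k) * wn hσ b k) ∨
    Cell hσ b (k + 1) (ng hσ (lead b k) * β * ng hσ (lead b k) * wn hσ b k) := by
  set s := lead b k with hs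
  have hn := CfsgLib.BN.subset_parabolic P (Set.mem_singleton (ng hσ s))
  have hz : ng hσ s * β * ng hσ s ∈ P.parabolic {ng hσ s} :=
    mul_mem (mul_mem hn (CfsgLib.BN.B_le_parabolic P _ (hP.B ▸ hβ))) hn
  rcases parabolic_cases hP s hz with h | ⟨b₁, hb₁, b₂, hb₂, e⟩
  · exact Or.inl ⟨_, h, 1, one_mem _, (mul_one _).symm⟩
  · obtain ⟨c₁, hc₁, c₂, hc₂, e'⟩ := cell_lead hσ k b hk b₂ hb₂
    refine Or.inr ⟨b₁ * c₁, mul_mem hb₁ hc₁, c₂, hc₂, ?_⟩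
    rw [← hs] at e'
    calc ng hσ s * β * ng hσ s * wn hσ b k = b₁ * (ng hσ s * b₂ * wn hσ b k) := by rw [e]; group
      _ = _ := by rw [e']; group

/-- elements outside the Borel subgroup lie in a cell -/
theorem exists_cell {g : ↥(G1 K m)} (hg : g ∉ Bw K m) :
    (∃ k < 7, Cell hσ true (k + 1) g) ∨ ∃ k < 8, Cell hσ false (k + 1) g := by
  obtain ⟨u, hu, h, hh, s, k, v, hv, e⟩ := fixed_bruhat hσ (G1_le_fix hσ g.2)
  have hvU : v ∈ V σ PosR := V_mono (fun r _ h => h.1) hv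
  set u' : ↥(G1 K m) := ⟨u, V_pos_le hσ hu⟩
  set h' : ↥(G1 K m) := ⟨h, diag_le hσ hh⟩
  set v' : ↥(G1 K m) := ⟨v, V_pos_le hσ hvU⟩
  have hb : u' * h' ∈ Bw K m := mul_mem (U_le_B hσ hu.1) (H_le_B hσ hh.1)
  have hv' : v' ∈ Bw K m := U_le_B hσ hvU.1
  have hc' : Cell hσ s k g := ⟨_, hb, v', hv', Subtype.ext (by
    rw [e, Subgroup.coe_mul, Subgroup.coe_mul, Subgroup.coe_mul, coe_wn hσ, ← wt_revW s k]
    simp [u', h', v', mul_assoc])⟩
  obtain ⟨k, hk⟩ := k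
  rcases k with _ | k
  · obtain ⟨b₁, h₁, b₂, h₂, rfl⟩ := hc'
    exact absurd (mul_mem (mul_mem h₁ (one_mem _)) h₂) hg
  cases s
  · exact Or.inr ⟨k, by omega, hc'⟩
  · rcases Nat.lt_or_ge k 7 with h7 | h7
    · exact Or.inl ⟨k, h7, hc'⟩
    · obtain rfl : k = 7 := by omega
      obtain ⟨b₁, h₁, b₂, h₂, e₂⟩ := hc'
      refine Or.inr ⟨7, by omega, b₁ * (wn hσ true 8 * (wn hσ false 8)⁻¹), mul_mem h₁ (H_le_B hσ ?_), b₂, h₂, ?_⟩
      · show (wn hσ true 8 : GL chevF4.Idx K) * (wn hσ false 8 : GL chevF4.Idx K)⁻¹ ∈ chevF4.diagonalSubgroup K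
        rw [coe_wn hσ, coe_wn hσ]
        exact nProd_div_mem hc fun r hr => wt_eight ⟨r, hr⟩
      · rw [e₂]; group

end

end CfsgLib.ReeF4Square
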