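import Cfsg.Agent.Lib.ReeF4Square.SL2
import Cfsg.Agent.Lib.Twisted.F4Simple
import Cfsg.Agent.Lib.ChevSL2.Hom

/-!
2F4(q), q ≥ 8: the Levi subgroup of the pair, its central torus element without fixed points on both
radicals, and an element whose class squared contains `Q⁻ l Q` for all `l` of nonzero trace.
-/

set_option autoImplicit false
set_option linter.unusedSectionVars false
set_option maxRecDepth 4000

namespace CfsgLib.ReeF4Square

open Cfsg.Lie CfsgLib.Chev CfsgLib.ReeF4 CfsgLib.ReeF4Out CfsgLib.ChevSL2 CfsgLib.SteinbergTwo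
open scoped MatrixGroups

variable {K : Type*} [Field K] [Fintype K] {m : ℕ} {σ : MulAut ↥(chevF4.group K)}

/-- the positive roots outside the Levi subgroup of the pair -/
abbrev KeepP : ℕ → Prop := KeepRoot chevF4 tb (jl false)

/-- the radical -/
noncomputable abbrev Qw (K : Type*) [Field K] (m : ℕ) : Subgroup ↥(G1 K m) :=
  (uGen chevF4 K KeepP).subgroupOf (G1 K m)

theorem keep_norm : ∀ r : Fin 48, KeepP r →
    (2 * ((e1 r).2 + (e2 r).1)) ^ 2 - 2 * ((e1 r).1 + 2 * (e2 r).2) ^ 2 ≠ 0 ∧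
    ((2 * ((e1 r).2 + (e2 r).1)) ^ 2 - 2 * ((e1 r).1 + 2 * (e2 r).2) ^ 2) ∣ (16 : ℤ) := by
  unfold KeepP KeepRoot; decide +kernel

/-- an element without fixed points on a finite group it normalises conjugates onto the coset -/
theorem exists_conj_eq_mul {G : Type*} [Group G] (Q : Subgroup G) [Finite Q] {w : G}
    (hn : ∀ v ∈ Q, w * v * w⁻¹ ∈ Q) (hf : ∀ v ∈ Q, w * v * w⁻¹ = v → v = 1) {q : G} (hq : q ∈ Q) :
    ∃ c, c * w * c⁻¹ = q * w := by
  let f : Q → Q := fun c => ⟨(c : G) * (w * (c : G)⁻¹ * w⁻¹), mul_mem c.2 (hn _ (inv_mem c.2))⟩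
  have hinj : Function.Injective f := by
    rintro ⟨c, hc⟩ ⟨d, hd⟩ e
    have e' : c * (w * c⁻¹ * w⁻¹) = d * (w * d⁻¹ * w⁻¹) := congrArg Subtype.val e
    have h := hf (d⁻¹ * c) (mul_mem (inv_mem hd) hc) (by
      calc w * (d⁻¹ * c) * w⁻¹ = d⁻¹ * (d * (w * d⁻¹ * w⁻¹)) * (w * c * w⁻¹) := by group
        _ = d⁻¹ * c := by rw [← e']; group)
    exact Subtype.ext (inv_mul_eq_one.1 h).symm
  obtain ⟨c, hc⟩ := (Finite.injective_iff_surjective.1 hinj) ⟨q, hq⟩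
  refine ⟨c, ?_⟩
  rw [← show (c : G) * (w * (c : G)⁻¹ * w⁻¹) = q from congrArg Subtype.val hc]
  group

/-- the matrix of the reflection -/
noncomputable def JJ (K : Type*) [Field K] : SL(2, K) :=
  img K (true, 1) * img K (false, 1) * img K (true, 1)

section
variable (hσ : IsSigma m σ)
include hσ

theorem hA_mem_H (t : Kˣ) : hA hσ t ∈ Hw K m := by
  show (hA hσ t : GL chevF4.Idx K) ∈ chevF4.diagonalSubgroup K
  rw [coe_hA, map_mul]
  exact mul_mem (torus_corChar_mem hc _) (torus_corChar_mem hc _)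

theorem hC_mem_H (u : Kˣ) : hC hσ u ∈ Hw K m :=
  mul_mem (hA_mem_H hσ _) (N_conj_H hσ (ng_mem_N hσ true) (hA_mem_H hσ u))

theorem ng_false_eq : ng hσ false = NP hσ (1 : K) := Subtype.ext (by
  show nJ K false = _
  rw [coe_NP, one_pow, ← simple_p.1, ← simple_p.2]
  simp [nJ, jl, nProd_cons, nProd_nil])

/-- the homomorphism of SL(2) onto the group of the pair -/
theorem exists_phi : ∃ φ : SL(2, K) →* ↥(G1 K m), ∀ b t, φ (img K (b, t)) = pg hσ b t := by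
  obtain ⟨h1, h4⟩ := pR_facts true
  obtain ⟨f1, -, hf1⟩ := exists_hom hc (F := K) (show f4p1 < chevF4.nroots from h1)
  obtain ⟨f4, -, hf4⟩ := exists_hom hc (F := K) (show f4p4 < chevF4.nroots from h4)
  have := CfsgLib.ReeF4.charP_two hσ.card
  have hn1 : chevF4.neg f4p1 = f4m1 := by decide +kernel
  have hn4 : chevF4.neg f4p4 = f4m4 := by decide +kernel
  have hpair : ∀ b b' (t t' : K), Commute (f1 (img K (b, t))) (f4 (img K (b', t'))) := by
    intro b b' t t'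
    rw [hf1, hf4]
    cases b <;> cases b' <;> simp only [rootPair, hn1, hn4, Bool.false_eq_true, if_true, if_false] <;>
      exact X_comm' (by decide) _ _
  have hcomm14 : ∀ M N, Commute (f1 M) (f4 N) := by
    intro M N
    have hM : M ∈ Subgroup.closure {g : SL(2, K) | ∃ b t, g = img K (b, t)} := by rw [closure_img]; trivial
    have hN : N ∈ Subgroup.closure {g : SL(2, K) | ∃ b t, g = img K (b, t)} := by rw [closure_img]; trivial
    induction hM using Subgroup.closure_induction with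
    | mem x hx =>
      obtain ⟨b, t, rfl⟩ := hx
      induction hN using Subgroup.closure_induction with
      | mem y hy => obtain ⟨b', t', rfl⟩ := hy; exact hpair b b' t t'
      | one => rw [map_one]; exact Commute.one_right _
      | mul a c _ _ ha hc => rw [map_mul]; exact ha.mul_right hc
      | inv a _ ha => rw [map_inv]; exact ha.inv_right
    | one => rw [map_one]; exact Commute.one_left _
    | mul a c _ _ ha hc => rw [map_mul]; exact ha.mul_left hc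
    | inv a _ ha => rw [map_inv]; exact ha.inv_left
  let fr : SL(2, K) →* SL(2, K) := Matrix.SpecialLinearGroup.map (iterateFrobenius K 2 m)
  let ψ : SL(2, K) →* GL chevF4.Idx K :=
    (MonoidHom.noncommCoprod f1 f4 hcomm14).comp (fr.prod (MonoidHom.id _))
  have hfr : ∀ b (t : K), fr (img K (b, t)) = img K (b, t ^ 2 ^ m) := by
    intro b t
    refine Subtype.ext ?_
    show (img K (b, t)).1.map (iterateFrobenius K 2 m) = _
    ext i j
    cases b <;> fin_cases i <;> fin_cases j <;> simp [coe_img, iterateFrobenius_def]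
  have hψ : ∀ b t, ψ (img K (b, t)) = (pg hσ b t : GL chevF4.Idx K) := by
    intro b t
    show f1 (fr (img K (b, t))) * f4 (img K (b, t)) = _
    rw [hfr, hf1, hf4, coe_pg]
    cases b <;> simp [rootPair, pR, hn1, hn4]
  have hmem : ∀ M, ψ M ∈ G1 K m := fun M => by
    have hM : M ∈ Subgroup.closure {g : SL(2, K) | ∃ b t, g = img K (b, t)} := by rw [closure_img]; trivial
    induction hM using Subgroup.closure_induction with
    | mem x hx => obtain ⟨b, t, rfl⟩ := hx; rw [hψ]; exact (pg hσ b t).2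
    | one => rw [map_one]; exact one_mem _
    | mul a c _ _ ha hc => rw [map_mul]; exact mul_mem ha hc
    | inv a _ ha => rw [map_inv]; exact inv_mem ha
  exact ⟨ψ.codRestrict (G1 K m) hmem, fun b t => Subtype.ext (hψ b t)⟩

theorem hC_qg_neg (u : Kˣ) (x v : K) :
    hC hσ u * qg hσ false x v * (hC hσ u)⁻¹ =
      qg hσ false ((u : K) ^ 2 ^ m / (u : K) * x) (((u : K) ^ 2 ^ m / (u : K)) ^ (2 ^ m + 1) * v) := by
  rw [hC, show ∀ a c d : ↥(G1 K m), a * c * d * (a * c)⁻¹ = a * (c * d * c⁻¹) * a⁻¹ from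
    fun a c d => by group, hB_qg, hA_qg]
  simp only [cond_false, Units.val_pow_eq_pow_val, div_eq_mul_inv, mul_pow, mul_assoc]

theorem Qw_le_U : Qw K m ≤ Uw K m := fun _ h => uGen_mono (fun _ _ h => h.1) h

theorem U_norm_Q {u v : ↥(G1 K m)} (hu : u ∈ Uw K m) (hv : v ∈ Qw K m) : u * v * u⁻¹ ∈ Qw K m :=
  keep_normal hσ false (Subgroup.mem_subgroupOf.1 hu) (Subgroup.mem_subgroupOf.1 hv)

theorem ng_norm_Q {v : ↥(G1 K m)} (hv : v ∈ Qw K m) :
    ng hσ false * v * (ng hσ false)⁻¹ ∈ Qw K m :=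
  conj_nProd_uGen _ (fun r hr h => ⟨h.2, by rw [((jl_commute false) ⟨r, hr⟩).2.1]; exact h.1⟩) hv

theorem H_norm_Q {h v : ↥(G1 K m)} (hh : h ∈ Hw K m) (hv : v ∈ Qw K m) : h * v * h⁻¹ ∈ Qw K m :=
  diag_conj_mem hc _ (Subgroup.mem_subgroupOf.1 hh) (Subgroup.mem_subgroupOf.1 hv)

theorem pg_norm_Q (b : Bool) (t : K) {v : ↥(G1 K m)} (hv : v ∈ Qw K m) :
    pg hσ b t * v * (pg hσ b t)⁻¹ ∈ Qw K m := by
  cases b
  · have hn : (ng hσ false)⁻¹ = ng hσ false := by rw [ng_false_eq, NP_inv]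
    rw [← show ng hσ false * pg hσ true t * (ng hσ false)⁻¹ = pg hσ false t from ng_conj_pg hσ true t,
      show ∀ n a : ↥(G1 K m), n * a * n⁻¹ * v * (n * a * n⁻¹)⁻¹ = n * (a * (n⁻¹ * v * n) * a⁻¹) * n⁻¹ from
        fun n a => by group]
    refine ng_norm_Q hσ (U_norm_Q hσ (pg_mem_U hσ t) ?_)
    have := ng_norm_Q hσ hv
    rwa [hn] at this ⊢
  · exact U_norm_Q hσ (pg_mem_U hσ t) hv

theorem phi_norm_Q {φ : SL(2, K) →* ↥(G1 K m)} (hφ : ∀ b t, φ (img K (b, t)) = pg hσ b t) (M : SL(2, K))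
    {v : ↥(G1 K m)} (hv : v ∈ Qw K m) : φ M * v * (φ M)⁻¹ ∈ Qw K m := by
  suffices h : φ M ∈ Subgroup.normalizer (Qw K m : Set ↥(G1 K m)) from (Subgroup.mem_normalizer_iff.1 h v).1 hv
  have hM : M ∈ Subgroup.closure {g : SL(2, K) | ∃ b t, g = img K (b, t)} := by rw [closure_img]; trivial
  induction hM using Subgroup.closure_induction with
  | mem x hx =>
    obtain ⟨b, t, rfl⟩ := hx
    rw [hφ]
    refine Subgroup.mem_normalizer_iff.2 fun v => ⟨pg_norm_Q hσ b t, fun h => ?_⟩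
    have := pg_norm_Q hσ b t h
    rwa [show pg hσ b t * (pg hσ b t * v * (pg hσ b t)⁻¹) * (pg hσ b t)⁻¹ =
      (pg hσ b t * pg hσ b t) * v * (pg hσ b t * pg hσ b t)⁻¹ by group, pg_self hσ, one_mul, inv_one,
      mul_one] at this
  | one => rw [map_one]; exact one_mem _
  | mul a c _ _ ha hc => rw [map_mul]; exact mul_mem ha hc
  | inv a _ ha => rw [map_inv]; exact inv_mem ha

theorem hC_phi {φ : SL(2, K) →* ↥(G1 K m)} (hφ : ∀ b t, φ (img K (b, t)) = pg hσ b t) (u : Kˣ)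
    (M : SL(2, K)) : Commute (hC hσ u) (φ M) := by
  have hM : M ∈ Subgroup.closure {g : SL(2, K) | ∃ b t, g = img K (b, t)} := by rw [closure_img]; trivial
  induction hM using Subgroup.closure_induction with
  | mem x hx =>
    obtain ⟨b, t, rfl⟩ := hx
    rw [hφ]
    exact mul_inv_eq_iff_eq_mul.1 (hC_pg hσ u b t)
  | one => rw [map_one]; exact Commute.one_right _
  | mul a c _ _ ha hc => rw [map_mul]; exact ha.mul_right hc
  | inv a _ ha => rw [map_inv]; exact ha.inv_right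

/-- the scalar of the central element on a root -/
noncomputable def kap (m : ℕ) (u : Kˣ) (r : ℕ) : Kˣ := ev m (u ^ 2 ^ m) (e1 r) * ev m u (e2 r)

theorem hC_X (u : Kˣ) (k : ℕ) {r : ℕ} (hr : r < 48) (x : K) :
    ((hC hσ u ^ k : ↥(G1 K m)) : GL chevF4.Idx K) * X r x *
      ((hC hσ u ^ k : ↥(G1 K m)) : GL chevF4.Idx K)⁻¹ = X r ((kap m u r : K) ^ k * x) := by
  induction k generalizing x with
  | zero => simp
  | succ k ih =>
    rw [pow_succ, Subgroup.coe_mul, show ∀ a b y : GL chevF4.Idx K, a * b * y * (a * b)⁻¹ =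
      a * (b * y * b⁻¹) * a⁻¹ from fun a b y => by group, hC, Subgroup.coe_mul,
      show ∀ a b y : GL chevF4.Idx K, a * b * y * (a * b)⁻¹ = a * (b * y * b⁻¹) * a⁻¹ from
      fun a b y => by group, hB_X hσ u hr, hA_X hσ _ hr]
    rw [← hC, ih]
    congr 1
    rw [kap, Units.val_mul, pow_succ]
    ring

theorem kap_pow_ne (hm : 1 ≤ m) {u : Kˣ} (hu : orderOf u = Fintype.card K - 1) {p : ℕ}
    (hp : Nat.Coprime p (Fintype.card K - 1)) {r : ℕ} (hr : r < 48) (hK : KeepP r) :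
    kap m u r ^ p ≠ 1 := by
  intro h
  obtain ⟨hN0, hN⟩ := keep_norm ⟨r, hr⟩ hK
  simp only at hN0 hN
  set a := (e1 r).1; set b := (e1 r).2; set c := (e2 r).1; set d := (e2 r).2
  set θ : ℤ := 2 ^ m with hθ
  have he : kap m u r = u ^ (θ * θ * a + θ * b + θ * c + d) := by
    rw [kap, ev, ev, ← zpow_natCast u (2 ^ m), ← zpow_natCast (u ^ _) (2 ^ m), ← zpow_mul, ← zpow_mul,
      ← zpow_mul, ← zpow_mul, ← zpow_add, ← zpow_add, ← zpow_add]
    congr 1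
    push_cast
    ring
  have h1 : ((Fintype.card K - 1 : ℕ) : ℤ) ∣ (θ * θ * a + θ * b + θ * c + d) * p := by
    rw [he, ← zpow_natCast, ← zpow_mul] at h
    rw [← hu]; exact orderOf_dvd_iff_zpow_eq_one.2 h
  have h2 := (Int.isCoprime_iff_nat_coprime.2 (by simpa using hp.symm) :
    IsCoprime ((Fintype.card K - 1 : ℕ) : ℤ) (p : ℤ)).dvd_of_dvd_mul_right h1
  set n : ℕ := Fintype.card K - 1 with hn
  have hq : (n : ℤ) = 2 * θ * θ - 1 := by
    rw [hn, Nat.cast_sub Fintype.card_pos, hσ.card, hθ]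
    push_cast; ring
  have h3 : (n : ℤ) ∣ (2 * (b + c)) ^ 2 - 2 * (a + 2 * d) ^ 2 := by
    have e : (2 * (b + c)) ^ 2 - 2 * (a + 2 * d) ^ 2 =
        (2 * θ * θ - 1) * (2 * a * (a + 2 * d - θ * (2 * (b + c))) - (2 * (b + c)) ^ 2) -
        2 * (θ * θ * a + θ * b + θ * c + d) * (2 * (a + 2 * d - θ * (2 * (b + c)))) := by ring
    rw [e, ← hq]
    exact dvd_sub (dvd_mul_right _ _) (dvd_mul_of_dvd_left (dvd_mul_of_dvd_right h2 _) _)
  have h4 : n ∣ 16 := by exact_mod_cast h3.trans hN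
  have h7 : 7 ≤ n := by
    rw [hn, hσ.card]
    have : 2 ^ 3 ≤ 2 ^ (2 * m + 1) := Nat.pow_le_pow_right two_pos (by omega)
    omega
  have hodd : ¬ 2 ∣ n := by
    rw [hn, hσ.card, pow_succ]
    have : 0 < 2 ^ (2 * m) := Nat.two_pow_pos _
    omega
  have := (Nat.coprime_two_left.2 (Nat.odd_iff.2 (by omega) : Odd n)).pow_left 4
  have := Nat.eq_one_of_dvd_coprimes this h4 dvd_rfl
  omega

theorem hC_fix (hm : 1 ≤ m) {u : Kˣ} (hu : orderOf u = Fintype.card K - 1) {p : ℕ}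
    (hp : Nat.Coprime p (Fintype.card K - 1)) {v : ↥(G1 K m)} (hv : v ∈ Qw K m)
    (h : hC hσ u ^ p * v * (hC hσ u ^ p)⁻¹ = v) : v = 1 := by
  obtain ⟨t, ht⟩ := uGen_exists hc hcomm (closedPos_keep hc (T := tb) (jl false)) (Subgroup.mem_subgroupOf.1 hv)
  set g : GL chevF4.Idx K := ((hC hσ u ^ p : ↥(G1 K m)) : GL chevF4.Idx K)
  have conjU : ∀ L : List ℕ, (∀ r ∈ L, r < 48) →
      g * uProd chevF4 K L t * g⁻¹ = uProd chevF4 K L fun r => (kap m u r : K) ^ p * t r := by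
    intro L hL
    induction L with
    | nil => simp [uProd]
    | cons a L ih =>
      simp only [List.forall_mem_cons] at hL
      have ih' := ih hL.2
      simp only [uProd, List.map_cons, List.prod_cons] at ih' ⊢
      rw [show ∀ x y : GL chevF4.Idx K, g * (x * y) * g⁻¹ = (g * x * g⁻¹) * (g * y * g⁻¹) from
        fun x y => by group, ih']
      congr 1
      exact hC_X hσ u p hL.1 _
  have e := congrArg Subtype.val h
  simp only [Subgroup.coe_mul, Subgroup.coe_inv] at e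
  rw [ht, conjU _ fun r hr => (mem_rootsFrom.1 hr).2.1] at e
  have h0 : ∀ r ∈ rootsFrom chevF4 KeepP 0, t r = 0 := by
    intro r hr
    have e' := uProd_inj hc (closedPos_keep hc (T := tb) (jl false)).1 0 e r hr
    obtain ⟨-, hr', hK⟩ := mem_rootsFrom.1 hr
    by_contra h0
    refine kap_pow_ne hσ hm hu hp hr' hK (Units.ext ?_)
    rw [Units.val_pow_eq_pow_val]
    exact mul_right_cancel₀ h0 (by rw [e', Units.val_one, one_mul])
  refine Subtype.ext ?_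
  rw [ht, uProd_congr (t' := fun _ => 0) h0]
  refine List.prod_eq_one fun x hx => ?_
  obtain ⟨r, hr, rfl⟩ := List.mem_map.1 hx
  exact elX_zero hc K (mem_rootsFrom.1 hr).2.1

variable {P : Cfsg.BNPair ↥(G1 K m)} (hP : HasBN hσ P)
include hP

theorem n0_phi {φ : SL(2, K) →* ↥(G1 K m)} (hφ : ∀ b t, φ (img K (b, t)) = pg hσ b t) (M : SL(2, K)) :
    n0 hσ * φ M * (n0 hσ)⁻¹ = φ (JJ K * M * (JJ K)⁻¹) := by
  have hM : M ∈ Subgroup.closure {g : SL(2, K) | ∃ b t, g = img K (b, t)} := by rw [closure_img]; trivial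
  induction hM using Subgroup.closure_induction with
  | mem x hx =>
    obtain ⟨b, t, rfl⟩ := hx
    have hJ : φ (JJ K) = ng hσ false := by
      rw [JJ, map_mul, map_mul, hφ, hφ, ng_false_eq, NP, inv_one]
    rw [hφ, n0_conj_pg hP, map_mul, map_mul, map_inv, hJ, hφ, ng_conj_pg]
  | one => simp
  | mul a c _ _ ha hc =>
    rw [show JJ K * (a * c) * (JJ K)⁻¹ = JJ K * a * (JJ K)⁻¹ * (JJ K * c * (JJ K)⁻¹) by group,
      map_mul φ (JJ K * a * (JJ K)⁻¹), ← ha, ← hc, map_mul]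
    group
  | inv a _ ha =>
    rw [show JJ K * a⁻¹ * (JJ K)⁻¹ = (JJ K * a * (JJ K)⁻¹)⁻¹ by group, map_inv φ (JJ K * a * (JJ K)⁻¹), ← ha,
      map_inv]
    group

theorem n0_hC (u : Kˣ) : n0 hσ * hC hσ u * (n0 hσ)⁻¹ = (hC hσ u)⁻¹ := by
  have hnN : n0 hσ ∈ Nw K m := nProd_mem_monomial hc _
  rw [← mul_eq_one_iff_eq_inv]
  set n := n0 hσ
  set z := hC hσ u with hz
  have key : ∀ a b : ↥(G1 K m), n * z * n⁻¹ * z * a * (n * z * n⁻¹ * z)⁻¹ = b ↔
      n * (z * (n⁻¹ * (z * a * z⁻¹) * n) * z⁻¹) * n⁻¹ = b := fun a b => by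
    constructor <;> intro h <;> rw [← h] <;> group
  refine diag_eq_one hσ (mul_mem (N_conj_H hσ hnN (hC_mem_H hσ u)) (hC_mem_H hσ u)) ?_ ?_
  · rw [key, hz, hC_pg hσ, ← show n * pg hσ false (1 : K) * n⁻¹ = pg hσ true 1 from n0_conj_pg hP false 1]
    rw [show n⁻¹ * (n * pg hσ false (1 : K) * n⁻¹) * n = pg hσ false 1 by group, hC_pg hσ]
  · rw [key, hz, hC_qg hσ, ← show ∀ x v : K, n * qg hσ false x v * n⁻¹ = qg hσ true x v from n0_conj_qg hP false]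
    rw [show ∀ y : ↥(G1 K m), n⁻¹ * (n * y * n⁻¹) * n = y from fun y => by group, hC_qg_neg hσ, mul_zero,
      mul_zero, ← mul_assoc, div_mul_div_cancel₀' (pow_ne_zero _ u.ne_zero), div_self u.ne_zero, one_mul]
    exact n0_conj_qg hP false 1 0

/-- one class whose square contains `Q⁻ l Q` for every `l` of nonzero trace -/
theorem exists_cover (hm : 1 ≤ m) {φ : SL(2, K) →* ↥(G1 K m)}
    (hφ : ∀ b t, φ (img K (b, t)) = pg hσ b t) :
    ∃ x : ↥(G1 K m), Odd (orderOf x) ∧ ∀ qm qp : ↥(G1 K m), qm ∈ Qw K m → qp ∈ Qw K m →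
      ∀ M : SL(2, K), (M = 1 ∨ tr2 M ≠ 0) → ∃ a b : ↥(G1 K m),
        n0 hσ * qm * (n0 hσ)⁻¹ * φ M * qp = a * x * a⁻¹ * (b * x * b⁻¹) := by
  classical
  obtain ⟨p, y, hp, hpo, hcop, hyp, ⟨w, hw⟩, hcov⟩ := exists_elliptic hσ.char2
  obtain ⟨u, hu⟩ := IsCyclic.exists_generator (α := Kˣ)
  have hu' : orderOf u = Fintype.card K - 1 := by
    rw [orderOf_eq_card_of_forall_mem_zpowers hu, Nat.card_eq_fintype_card, Fintype.card_units]
  set z := hC hσ u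
  have hzc : ∀ M, Commute z (φ M) := hC_phi hσ hφ u
  set x := z * φ y with hx
  refine ⟨x, ?_, ?_⟩
  · have hzo : Odd (orderOf z) := by
      refine Nat.odd_iff.2 ?_
      by_contra hne
      have h2 : 2 ∣ orderOf z := by omega
      have := CfsgLib.ReeF4.charP_two hσ.card
      have : Fact (Nat.Prime 2) := ⟨Nat.prime_two⟩
      let z' : ↥(chevF4.diagonalSubgroup K) := ⟨(z : GL chevF4.Idx K), Subgroup.mem_subgroupOf.1 (hC_mem_H hσ u)⟩
      refine ChevAut.diagonal_card_coprime hc (F := K) 2 (h2.trans ?_)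
      rw [← Subgroup.orderOf_coe, show (z : GL chevF4.Idx K) = (z' : GL chevF4.Idx K) from rfl, Subgroup.orderOf_coe]
      exact orderOf_dvd_natCard z'
    refine Odd.of_dvd_nat (hpo.mul hzo) (orderOf_dvd_of_pow_eq_one ?_)
    rw [hx, (hzc y).mul_pow, mul_comm p, pow_mul, pow_orderOf_eq_one, one_pow, one_mul, mul_comm, pow_mul,
      ← map_pow, hyp, map_one, one_pow]
  intro qm qp hqm hqp M hM
  obtain ⟨a, b, rfl⟩ := hcov M hM
  -- an element congruent to a power of the centre has no fixed points on the radical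
  have hfree : ∀ (w' : ↥(G1 K m)), (w' ^ p = z ^ p ∨ w' ^ p = (z ^ p)⁻¹) →
      ∀ v ∈ Qw K m, w' * v * w'⁻¹ = v → v = 1 := by
    intro w' hw' v hv hfix
    refine hC_fix hσ hm hu' hcop hv ?_
    have hc' : Commute (w' ^ p) v := Commute.pow_left (show Commute w' v from mul_inv_eq_iff_eq_mul.1 hfix) p
    rcases hw' with e | e <;> rw [e] at hc'
    · exact mul_inv_eq_iff_eq_mul.2 hc'
    · exact mul_inv_eq_iff_eq_mul.2 (by have h := hc'.inv_left; rw [inv_inv] at h; exact h.eq)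
  have hpow : ∀ (N : SL(2, K)) (t : ↥(G1 K m)), N ^ p = 1 → (∀ M, Commute t (φ M)) → (t * φ N) ^ p = t ^ p := by
    intro N t hN ht
    rw [(ht N).mul_pow, ← map_pow, hN, map_one, mul_one]
  have hpc : ∀ (c : SL(2, K)) (N : SL(2, K)), N ^ p = 1 → (c * N * c⁻¹) ^ p = 1 := fun c N h => by
    rw [conj_pow, h, mul_one, mul_inv_cancel]
  have hnorm : ∀ (t : ↥(G1 K m)), t ∈ Hw K m → ∀ N, ∀ v ∈ Qw K m, t * φ N * v * (t * φ N)⁻¹ ∈ Qw K m := by
    intro t ht N v hv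
    rw [show t * φ N * v * (t * φ N)⁻¹ = t * (φ N * v * (φ N)⁻¹) * t⁻¹ by group]
    exact H_norm_Q hσ ht (phi_norm_Q hσ hφ N hv)
  have hzH : z ∈ Hw K m := hC_mem_H hσ u
  -- the left factor, moved to the positive radical
  set N1 := (JJ K)⁻¹ * (a * y * a⁻¹) * JJ K with hN1
  have hN1p : N1 ^ p = 1 := by
    rw [hN1, show (JJ K)⁻¹ * (a * y * a⁻¹) * JJ K = ((JJ K)⁻¹ * a) * y * ((JJ K)⁻¹ * a)⁻¹ by group]
    exact hpc _ _ hyp
  obtain ⟨c1, hc1⟩ := exists_conj_eq_mul (Qw K m) (w := z⁻¹ * φ N1) (hnorm _ (inv_mem hzH) N1)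
    (hfree _ (Or.inr (by rw [hpow _ _ hN1p fun M => (hzc M).inv_left, inv_pow]))) hqm
  have hN2p : (b * y⁻¹ * b⁻¹) ^ p = 1 := hpc _ _ (by rw [inv_pow, hyp, inv_one])
  obtain ⟨c2, hc2⟩ := exists_conj_eq_mul (Qw K m) (w := z⁻¹ * φ (b * y⁻¹ * b⁻¹)) (hnorm _ (inv_mem hzH) _)
    (hfree _ (Or.inr (by rw [hpow _ _ hN2p fun M => (hzc M).inv_left, inv_pow])))
    (hnorm _ (inv_mem hzH) (b * y⁻¹ * b⁻¹) qp hqp)
  have h1 : n0 hσ * (z⁻¹ * φ N1) * (n0 hσ)⁻¹ = z * φ (a * y * a⁻¹) := by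
    rw [show n0 hσ * (z⁻¹ * φ N1) * (n0 hσ)⁻¹ = (n0 hσ * z * (n0 hσ)⁻¹)⁻¹ * (n0 hσ * φ N1 * (n0 hσ)⁻¹) by group,
      n0_hC hσ hP u, inv_inv, n0_phi hσ hP hφ, hN1]
    congr 2
    group
  have hxa : φ a * x * (φ a)⁻¹ = z * φ (a * y * a⁻¹) := by
    rw [hx, map_mul, map_mul, map_inv, ← mul_assoc (φ a) z, (hzc a).symm.eq]
    group
  have hxb : φ (b * w * (JJ K)⁻¹) * n0 hσ * x * (φ (b * w * (JJ K)⁻¹) * n0 hσ)⁻¹ =
      z⁻¹ * φ (b * y⁻¹ * b⁻¹) := by
    set c := b * w * (JJ K)⁻¹ with hcdef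
    rw [show φ c * n0 hσ * x * (φ c * n0 hσ)⁻¹ = φ c * (n0 hσ * x * (n0 hσ)⁻¹) * (φ c)⁻¹ by group,
      hx, show n0 hσ * (z * φ y) * (n0 hσ)⁻¹ = n0 hσ * z * (n0 hσ)⁻¹ * (n0 hσ * φ y * (n0 hσ)⁻¹) by group,
      n0_hC hσ hP u, n0_phi hσ hP hφ, ← mul_assoc, ((hzc c).inv_left).symm.eq, mul_assoc, mul_assoc,
      ← map_inv φ c, ← map_mul, ← map_mul, hw, hcdef]
    congr 2
    group
  refine ⟨n0 hσ * c1 * (n0 hσ)⁻¹ * φ a, c2 * (φ (b * w * (JJ K)⁻¹) * n0 hσ), ?_⟩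
  rw [show n0 hσ * c1 * (n0 hσ)⁻¹ * φ a * x * (n0 hσ * c1 * (n0 hσ)⁻¹ * φ a)⁻¹ =
      n0 hσ * c1 * (n0 hσ)⁻¹ * (φ a * x * (φ a)⁻¹) * (n0 hσ * c1 * (n0 hσ)⁻¹)⁻¹ by group,
    hxa, ← h1,
    show n0 hσ * c1 * (n0 hσ)⁻¹ * (n0 hσ * (z⁻¹ * φ N1) * (n0 hσ)⁻¹) * (n0 hσ * c1 * (n0 hσ)⁻¹)⁻¹ =
      n0 hσ * (c1 * (z⁻¹ * φ N1) * c1⁻¹) * (n0 hσ)⁻¹ by group, hc1,
    show c2 * (φ (b * w * (JJ K)⁻¹) * n0 hσ) * x * (c2 * (φ (b * w * (JJ K)⁻¹) * n0 hσ))⁻¹ =
      c2 * (φ (b * w * (JJ K)⁻¹) * n0 hσ * x * (φ (b * w * (JJ K)⁻¹) * n0 hσ)⁻¹) * c2⁻¹ by group,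
    hxb, hc2,
    show n0 hσ * (qm * (z⁻¹ * φ N1)) * (n0 hσ)⁻¹ = n0 hσ * qm * (n0 hσ)⁻¹ * (n0 hσ * (z⁻¹ * φ N1) * (n0 hσ)⁻¹) by group,
    h1, map_mul φ (a * y * a⁻¹),
    show z⁻¹ * φ (b * y⁻¹ * b⁻¹) * qp * (z⁻¹ * φ (b * y⁻¹ * b⁻¹))⁻¹ * (z⁻¹ * φ (b * y⁻¹ * b⁻¹)) =
      z⁻¹ * φ (b * y⁻¹ * b⁻¹) * qp by group]
  rw [(hzc (a * y * a⁻¹)).eq]
  group

end

end CfsgLib.ReeF4Square
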