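import Cfsg.Agent.Lib.ReeF4Square.Gauss

/-!
2F4(q), q ≥ 8: every nontrivial element is a product of two conjugates of one element of odd order.
-/

set_option autoImplicit false
set_option linter.unusedSectionVars false
set_option maxRecDepth 4000

namespace CfsgLib.ReeF4Square

open Cfsg.Lie CfsgLib.Chev CfsgLib.ReeF4 CfsgLib.ReeF4Out CfsgLib.SteinbergTwo
open CfsgLib.ChevAut (Up Um)
open scoped MatrixGroups

variable {K : Type*} [Field K] [Fintype K] {m : ℕ} {σ : MulAut ↥(chevF4.group K)}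

/-- a product of two conjugates of `x` -/
def Good {G : Type*} [Group G] (x g : G) : Prop := ∃ a b : G, g = a * x * a⁻¹ * (b * x * b⁻¹)

theorem Good.of_conj {G : Type*} [Group G] {x g : G} (z : G) (h : Good x (z * g * z⁻¹)) : Good x g := by
  obtain ⟨a, b, e⟩ := h
  refine ⟨z⁻¹ * a, z⁻¹ * b, ?_⟩
  calc g = z⁻¹ * (z * g * z⁻¹) * z := by group
    _ = _ := by rw [e]; group

/-- the class of `x` squared contains `Q⁻ l Q` for every `l` of nonzero trace -/
def Cover (hσ : IsSigma m σ) (φ : SL(2, K) →* ↥(G1 K m)) (x : ↥(G1 K m)) : Prop :=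
  ∀ qm qp : ↥(G1 K m), qm ∈ Qw K m → qp ∈ Qw K m → ∀ M : SL(2, K), (M = 1 ∨ tr2 M ≠ 0) →
    ∃ a b : ↥(G1 K m), n0 hσ * qm * (n0 hσ)⁻¹ * φ M * qp = a * x * a⁻¹ * (b * x * b⁻¹)

section
variable (hσ : IsSigma m σ)
include hσ

theorem U_parts {u : ↥(G1 K m)} (hu : u ∈ Uw K m) : ∃ a : K, ∃ q ∈ Qw K m, u = pg hσ true a * q := by
  obtain ⟨a, ha, r, hr, e⟩ := fixed_components hσ (P := PosR) (Q := InvRoot chevF4 tb (jl false))
    (R := KeepRoot chevF4 tb (jl false))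
    ⟨fun _ _ h => h, fun r u v hr hu h1 h2 hv => by
      have := (closedPos_keep hc (T := tb) ([] : List (Fin chevF4.rank))).2 r u v hr hu ⟨h1, h1⟩ ⟨h2, h2⟩ hv
      exact this.1⟩
    (closedPos_inv hc _) (closedPos_keep hc _)
    (fun r _ h1 h2 => absurd h1.2 (Nat.not_lt.2 h2.2))
    (fun r _ h => (Nat.lt_or_ge (sigs chevF4 tb (jl false) r) (chevF4.nroots / 2)).imp
      (fun g => ⟨h, g⟩) (fun g => ⟨h, g⟩))
    (fun r hr => (keep_rho false ⟨r, hr⟩).1) (fun r hr => (keep_rho false ⟨r, hr⟩).2)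
    ((mem_U hσ).1 hu)
  have hrU : r ∈ V σ PosR := V_mono (fun _ _ h => h.1) hr
  obtain ⟨t, ht⟩ := exists_pg hσ (g := ⟨a, V_pos_le hσ (V_mono (fun _ _ h => h.1) ha)⟩) ha
  exact ⟨t, ⟨r, V_pos_le hσ hrU⟩, hr.1, by rw [← ht]; exact Subtype.ext e⟩

theorem parts_mul (a b : K) {q q' : ↥(G1 K m)} (hq : q ∈ Qw K m) (hq' : q' ∈ Qw K m) :
    ∃ q'' ∈ Qw K m, pg hσ true a * q * (pg hσ true b * q') = pg hσ true (a + b) * q'' := by
  refine ⟨pg hσ true b * q * (pg hσ true b)⁻¹ * q', mul_mem (pg_norm_Q hσ true b hq) hq', ?_⟩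
  rw [← pg_mul hσ, pg_inv hσ]
  calc pg hσ true a * q * (pg hσ true b * q')
      = pg hσ true a * (pg hσ true b * pg hσ true b) * q * pg hσ true b * q' := by rw [pg_self hσ]; group
    _ = _ := by group

theorem V_parts {v : ↥(G1 K m)} (hv : v ∈ Vw K m) {P : Cfsg.BNPair ↥(G1 K m)} (hP : HasBN hσ P) :
    ∃ a : K, ∃ q ∈ Qw K m, v = n0 hσ * q * (n0 hσ)⁻¹ * pg hσ false a := by
  have hx : (n0 hσ)⁻¹ * v * n0 hσ ∈ Uw K m := by
    rw [← (n0_conj hσ).1, show n0 hσ * ((n0 hσ)⁻¹ * v * n0 hσ) * (n0 hσ)⁻¹ = v by group]; exact hv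
  obtain ⟨a, q, hq, e⟩ := U_parts hσ (inv_mem hx)
  refine ⟨a, q⁻¹, inv_mem hq, ?_⟩
  rw [← show n0 hσ * pg hσ true a * (n0 hσ)⁻¹ = pg hσ false a from n0_conj_pg hP true a]
  have e' : (n0 hσ)⁻¹ * v * n0 hσ = q⁻¹ * pg hσ true a := by
    rw [← inv_inv ((n0 hσ)⁻¹ * v * n0 hσ), e, mul_inv_rev, pg_inv hσ]
  calc v = n0 hσ * ((n0 hσ)⁻¹ * v * n0 hσ) * (n0 hσ)⁻¹ := by group
    _ = _ := by rw [e']; group

variable {φ : SL(2, K) →* ↥(G1 K m)} (hφ : ∀ b t, φ (img K (b, t)) = pg hσ b t)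
include hφ

theorem B_parts {b₁ b₂ : ↥(G1 K m)} (h₁ : b₁ ∈ Bw K m) (h₂ : b₂ ∈ Bw K m) :
    ∃ c ∈ Uw K m, ∃ h0 ∈ Hw K m, b₂ * b₁ = c * h0 :=
  B_split hσ (mul_mem h₂ h₁)

/-- cells of the words ending with the quadruple, of length at most six -/
theorem good_short {x : ↥(G1 K m)} (hx : Cover hσ φ x) {P : Cfsg.BNPair ↥(G1 K m)} (hP : HasBN hσ P)
    {k : ℕ} (hk : k < 6) {g : ↥(G1 K m)} (hg : Cell hσ true (k + 1) g) : Good x g := by
  classical
  obtain ⟨b₁, h₁, b₂, h₂, rfl⟩ := hg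
  obtain ⟨c, hc', h0, h0H, ec⟩ := B_parts hσ hφ h₁ h₂
  obtain ⟨s, u, hu, v, hv, u₁, hu₁, e⟩ := dec_true hσ (k := k) (by omega) h0H
  set g0 := h0 * wn hσ true (k + 1) with hg0
  have hQ : ∀ t : K, g0 * pg hσ true t * g0⁻¹ ∈ Qw K m := fun t => by
    rw [hg0, show h0 * wn hσ true (k + 1) * pg hσ true t * (h0 * wn hσ true (k + 1))⁻¹ =
      h0 * (wn hσ true (k + 1) * pg hσ true t * (wn hσ true (k + 1))⁻¹) * h0⁻¹ by group]
    refine H_norm_Q hσ h0H ?_
    show (wn hσ true (k + 1) : GL chevF4.Idx K) * (pg hσ true t).1 * (wn hσ true (k + 1) : GL chevF4.Idx K)⁻¹ ∈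
      uGen chevF4 K KeepP
    rw [coe_wn hσ]
    exact conj_nProd_uGen _ (fun r hr h => wt_keep ⟨k, hk⟩ ⟨r, hr⟩ h) (pgv_pos_mem hσ t).1
  obtain ⟨α, qm, hqm, rfl⟩ := V_parts hσ hv hP
  obtain ⟨β, q1, hq1, rfl⟩ := U_parts hσ hu₁
  obtain ⟨γ, q2, hq2, rfl⟩ := U_parts hσ hc'
  obtain ⟨δ, q3, hq3, e3⟩ := U_parts hσ (inv_mem hu)
  set S : K := (s : K)
  set bt : K := if α = 0 then 0 else (S + S⁻¹ + 1) / (α * S) with hbt
  set a : K := bt + β + γ + δ
  obtain ⟨q4, hq4, e4⟩ := parts_mul hσ β a hq1 (one_mem _)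
  obtain ⟨q5, hq5, e5⟩ := parts_mul hσ (β + a) γ hq4 hq2
  obtain ⟨q6, hq6, e6⟩ := parts_mul hσ (β + a + γ) δ
    (mul_mem hq5 (inv_mem (hQ a))) hq3
  have eb : β + a + γ + δ = bt := by
    simp only [a]
    linear_combination (β + γ + δ) * hσ.char2
  refine Good.of_conj b₂ (Good.of_conj (u * (g0 * pg hσ true a * g0⁻¹) * (pg hσ true γ * q2)⁻¹) ?_)
  set M : SL(2, K) := img K (false, α) * Dm s * img K (true, bt) with hM
  have key : (u * (g0 * pg hσ true a * g0⁻¹) * (pg hσ true γ * q2)⁻¹) * (b₂ * (b₁ * wn hσ true (k + 1) * b₂) * b₂⁻¹) *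
      (u * (g0 * pg hσ true a * g0⁻¹) * (pg hσ true γ * q2)⁻¹)⁻¹ =
      n0 hσ * qm * (n0 hσ)⁻¹ * φ M * q6 := by
    rw [show b₂ * (b₁ * wn hσ true (k + 1) * b₂) * b₂⁻¹ = b₂ * b₁ * wn hσ true (k + 1) by group, ec,
      mul_assoc (pg hσ true γ * q2) h0, ← hg0]
    calc (u * (g0 * pg hσ true a * g0⁻¹) * (pg hσ true γ * q2)⁻¹) * (pg hσ true γ * q2 * g0) *
          (u * (g0 * pg hσ true a * g0⁻¹) * (pg hσ true γ * q2)⁻¹)⁻¹
        = (u * g0) * pg hσ true a * (pg hσ true γ * q2) * (g0 * pg hσ true a * g0⁻¹)⁻¹ * u⁻¹ := by group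
      _ = n0 hσ * qm * (n0 hσ)⁻¹ * pg hσ false α * hA hσ s * (pg hσ true β * q1 * (pg hσ true a * 1)) *
            (pg hσ true γ * q2) * (g0 * pg hσ true a * g0⁻¹)⁻¹ * u⁻¹ := by rw [e]; group
      _ = n0 hσ * qm * (n0 hσ)⁻¹ * pg hσ false α * hA hσ s * ((pg hσ true (β + a) * q4 *
            (pg hσ true γ * q2)) * (g0 * pg hσ true a * g0⁻¹)⁻¹ * u⁻¹) := by rw [e4]; group
      _ = n0 hσ * qm * (n0 hσ)⁻¹ * pg hσ false α * hA hσ s * (pg hσ true (β + a + γ) *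
            (q5 * (g0 * pg hσ true a * g0⁻¹)⁻¹) * (pg hσ true δ * q3)) := by rw [e5, e3]; group
      _ = n0 hσ * qm * (n0 hσ)⁻¹ * (pg hσ false α * hA hσ s * pg hσ true bt) * q6 := by rw [e6, eb]; group
      _ = _ := by rw [hM, map_mul, map_mul, hφ, hφ, hA_phi hσ hφ]
  rw [key]
  refine hx qm q6 hqm hq6 M ?_
  have htr : tr2 M = S + α * S * bt + S⁻¹ := by
    simp [tr2, hM, coe_Dm hσ, coe_img, Matrix.mul_apply, Fin.sum_univ_two, S]
    ring
  by_cases hα : α = 0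
  · by_cases hS : S = 1
    · left
      have hb : bt = 0 := by rw [hbt, if_pos hα]
      apply Subtype.ext
      simp [hM, coe_Dm hσ, coe_img, hα, hb, show (s : K) = 1 from hS, Matrix.one_fin_two]
    · right
      rw [htr, hα, zero_mul, zero_mul, add_zero]
      intro h
      refine hS ?_
      have hS0 : S ≠ 0 := s.ne_zero
      field_simp at h
      have : (S - 1) ^ 2 = 0 := by linear_combination h - S * hσ.char2
      exact sub_eq_zero.1 ((pow_eq_zero_iff two_ne_zero).1 this)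
  · right
    rw [htr, hbt, if_neg hα, mul_div_cancel₀ _ (mul_ne_zero hα s.ne_zero)]
    exact fun h => one_ne_zero (by linear_combination h - (S + S⁻¹) * hσ.char2 : (1 : K) = 0)

/-- the big cell -/
theorem good_big (hm : 1 ≤ m) {x : ↥(G1 K m)} (hx : Cover hσ φ x) {P : Cfsg.BNPair ↥(G1 K m)}
    (hP : HasBN hσ P) {g : ↥(G1 K m)} (hg : Cell hσ false 8 g) : Good x g := by
  classical
  obtain ⟨b₁, h₁, b₂, h₂, rfl⟩ := hg
  obtain ⟨c, hc', h0, h0H, ec⟩ := B_parts hσ hφ h₁ h₂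
  -- the scalar of the torus element on the pair
  obtain ⟨κ, hκ0, hκ⟩ : ∃ κ : K, κ ≠ 0 ∧ ∀ t, h0 * pg hσ true t * h0⁻¹ = pg hσ true (κ * t) := by
    obtain ⟨t, s, e⟩ := H_form hσ h0H
    set T : K := (t : K); set S : K := (s : K)
    refine ⟨T ^ 2 * ((T ^ 2 ^ m) ^ 2 * S ^ 2), mul_ne_zero (pow_ne_zero _ t.ne_zero)
      (mul_ne_zero (pow_ne_zero _ (pow_ne_zero _ t.ne_zero)) (pow_ne_zero _ s.ne_zero)), fun y => ?_⟩
    have hBi : ∀ y, (hB hσ t)⁻¹ * pg hσ true y * hB hσ t = pg hσ true ((T ^ 2 ^ m) ^ 2 * y) := by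
      intro y
      have h := hB_pg hσ t true ((T ^ 2 ^ m) ^ 2 * y)
      simp only [cond_true, zpow_neg, zpow_ofNat] at h
      rw [← mul_assoc, inv_mul_cancel₀ (pow_ne_zero _ (pow_ne_zero _ t.ne_zero)), one_mul] at h
      rw [← h]; group
    rw [e, show hA hσ t * (hB hσ t)⁻¹ * hA hσ s * pg hσ true y * (hA hσ t * (hB hσ t)⁻¹ * hA hσ s)⁻¹ =
      hA hσ t * ((hB hσ t)⁻¹ * (hA hσ s * pg hσ true y * (hA hσ s)⁻¹) * hB hσ t) * (hA hσ t)⁻¹ by group,
      hA_pg hσ, hBi, hA_pg hσ]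
    congr 1
    simp [T, S, zpow_ofNat]; ring
  obtain ⟨s, hs⟩ : ∃ s : Kˣ, (s : K) ^ 2 ≠ κ := by
    by_contra hall
    push Not at hall
    obtain ⟨y, hy⟩ := exists_not_prime hσ hm
    have h1 := hall 1
    have hy0 : y ≠ 0 := fun e => hy (by rw [e, zero_pow (pow_ne_zero _ two_ne_zero)])
    have h2 := hall (Units.mk0 y hy0)
    rw [Units.val_one, one_pow] at h1
    rw [Units.val_mk0, ← h1] at h2
    refine hy ?_
    have : (y - 1) ^ 2 = 0 := by linear_combination h2 + (1 - y) * hσ.char2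
    rw [sub_eq_zero.1 ((pow_eq_zero_iff two_ne_zero).1 this), one_pow]
  obtain ⟨u, hu, v, hv, u₁, hu₁, e⟩ := dec_seven hσ s h0H
  set g0 := h0 * wn hσ true 7 with hg0
  set n := ng hσ false with hn
  have hconj : ∀ t : K, g0 * pg hσ true t * g0⁻¹ = pg hσ true (κ * t) := fun t => by
    rw [hg0, show h0 * wn hσ true 7 * pg hσ true t * (h0 * wn hσ true 7)⁻¹ =
      h0 * (wn hσ true 7 * pg hσ true t * (wn hσ true 7)⁻¹) * h0⁻¹ by group, ← hκ]
    congr 2
    refine Subtype.ext ?_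
    obtain ⟨a1, a4⟩ := pR_facts true
    rw [Subgroup.coe_mul, Subgroup.coe_mul, Subgroup.coe_inv, coe_wn hσ, coe_pg]
    simp only [pR]
    rw [show ∀ a x y : GL chevF4.Idx K, a * (x * y) * a⁻¹ = a * x * a⁻¹ * (a * y * a⁻¹) from
      fun a x y => by group, nProd_conj hσ _ (show f4p1 < 48 from a1), nProd_conj hσ _ (show f4p4 < 48 from a4), wt_seven.1, wt_seven.2]
  obtain ⟨α, qm, hqm, rfl⟩ := V_parts hσ hv hP
  obtain ⟨β, q1, hq1, rfl⟩ := U_parts hσ hu₁
  obtain ⟨γ, q2, hq2, rfl⟩ := U_parts hσ hc'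
  obtain ⟨δ, q3, hq3, e3⟩ := U_parts hσ (inv_mem hu)
  set S : K := (s : K)
  set c0 : K := γ + κ * β + δ with hc0
  set f : K → K := fun ξ => S * ξ + α * S + (κ * ξ + c0) * (α * S * ξ + S⁻¹) with hf
  obtain ⟨ξ, hξ⟩ : ∃ ξ, f ξ ≠ 0 := by
    by_contra hall
    push Not at hall
    obtain ⟨y, hy⟩ := exists_not_prime hσ hm
    have hS : S ≠ 0 := s.ne_zero
    have e0 := hall 0
    have e1' := hall 1
    have e2' := hall y
    simp only [hf] at e0 e1' e2'
    have hy0 : y ≠ 0 := fun e => hy (by rw [e, zero_pow (pow_ne_zero _ two_ne_zero)])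
    have hy1 : y ≠ 1 := fun e => hy (by rw [e, one_pow])
    have hA2 : κ * α * S * (y * (y - 1)) = 0 := by linear_combination e2' - y * e1' - (1 - y) * e0
    have hα : α = 0 := by simpa [hκ0, hS, hy0, sub_ne_zero.2 hy1] using hA2
    subst hα
    have hB2 : S + κ * S⁻¹ = 0 := by linear_combination e1' - e0
    field_simp at hB2
    exact hs (by linear_combination hB2 - κ * hσ.char2)
  set a : K := ξ + β
  obtain ⟨q4, hq4, e4⟩ := parts_mul hσ β a hq1 (one_mem _)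
  have hq4' : n⁻¹ * q4 * n ∈ Qw K m := by
    have hinv : n⁻¹ = n := by rw [hn, ng_false_eq, NP_inv]
    rw [hinv]
    have := ng_norm_Q hσ hq4
    rwa [← hn, hinv] at this
  obtain ⟨q5, hq5, e5⟩ := parts_mul hσ γ (κ * a) hq2 (one_mem _)
  obtain ⟨q6, hq6, e6⟩ := parts_mul hσ (γ + κ * a) δ hq5 hq3
  obtain ⟨q7, hq7, e7⟩ := parts_mul hσ 0 (γ + κ * a + δ) hq4' hq6
  have eξ : β + a = ξ := by simp only [a]; linear_combination β * hσ.char2
  have eζ : 0 + (γ + κ * a + δ) = κ * ξ + c0 := by simp only [a, hc0]; ring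
  refine Good.of_conj b₂ (Good.of_conj (u * (g0 * pg hσ true a * g0⁻¹) * (pg hσ true γ * q2)⁻¹) ?_)
  have hJ : φ (JJ K) = n := by rw [hn, JJ, map_mul, map_mul, hφ, hφ, ng_false_eq, NP, inv_one]
  set M : SL(2, K) := img K (false, α) * Dm s * img K (true, ξ) * JJ K * img K (true, κ * ξ + c0) with hM
  have key : (u * (g0 * pg hσ true a * g0⁻¹) * (pg hσ true γ * q2)⁻¹) * (b₂ * (b₁ * wn hσ false 8 * b₂) * b₂⁻¹) *
      (u * (g0 * pg hσ true a * g0⁻¹) * (pg hσ true γ * q2)⁻¹)⁻¹ =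
      n0 hσ * qm * (n0 hσ)⁻¹ * φ M * q7 := by
    rw [show b₂ * (b₁ * wn hσ false 8 * b₂) * b₂⁻¹ = b₂ * b₁ * wn hσ false 8 by group, ec,
      show wn hσ false 8 = wn hσ true 7 * n from rfl, mul_assoc (pg hσ true γ * q2) h0, ← mul_assoc h0, ← hg0]
    have hnn : n * pg hσ true 0 = n := by rw [pg_zero, mul_one]
    calc (u * (g0 * pg hσ true a * g0⁻¹) * (pg hσ true γ * q2)⁻¹) * (pg hσ true γ * q2 * (g0 * n)) *
          (u * (g0 * pg hσ true a * g0⁻¹) * (pg hσ true γ * q2)⁻¹)⁻¹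
        = (u * g0) * pg hσ true a * n * (pg hσ true γ * q2) * (g0 * pg hσ true a * g0⁻¹)⁻¹ * u⁻¹ := by group
      _ = n0 hσ * qm * (n0 hσ)⁻¹ * pg hσ false α * hA hσ s * (pg hσ true β * q1 * (pg hσ true a * 1)) * n *
            (pg hσ true γ * q2 * (pg hσ true (κ * a) * 1)) * (pg hσ true δ * q3) := by
          rw [e, hconj, e3, pg_inv hσ]; group
      _ = n0 hσ * qm * (n0 hσ)⁻¹ * pg hσ false α * hA hσ s * pg hσ true ξ *
            (n * pg hσ true 0 * (n⁻¹ * q4 * n)) * (pg hσ true (γ + κ * a + δ) * q6) := by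
          rw [e4, e5, eξ, hnn, mul_assoc _ (pg hσ true (γ + κ * a) * q5), e6]; group
      _ = n0 hσ * qm * (n0 hσ)⁻¹ * pg hσ false α * hA hσ s * pg hσ true ξ * n *
            (pg hσ true 0 * (n⁻¹ * q4 * n) * (pg hσ true (γ + κ * a + δ) * q6)) := by group
      _ = n0 hσ * qm * (n0 hσ)⁻¹ * (pg hσ false α * hA hσ s * pg hσ true ξ * n *
            pg hσ true (κ * ξ + c0)) * q7 := by rw [e7, eζ]; group
      _ = _ := by rw [hM, map_mul, map_mul, map_mul, map_mul, hφ, hφ, hφ, hA_phi hσ hφ, hJ]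
  rw [key]
  refine hx qm q7 hqm hq7 M (Or.inr ?_)
  have htr : tr2 M = f ξ := by
    simp [tr2, hM, hf, coe_Dm hσ, coe_img, JJ, Matrix.mul_apply, Fin.sum_univ_two, S, add_self hσ]
    ring
  rw [htr]
  exact hξ

omit hφ in
theorem good_all (hm : 1 ≤ m) : ∃ x : ↥(G1 K m), Odd (orderOf x) ∧ ∀ g, g ≠ 1 → Good x g := by
  classical
  obtain ⟨P, hP⟩ := exists_hasBN hσ
  obtain ⟨φ, hφ⟩ := exists_phi hσ
  obtain ⟨x, hxo, hx⟩ := exists_cover hσ hP hm hφ
  refine ⟨x, hxo, ?_⟩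
  have hT : ∀ k < 6, ∀ g, Cell hσ true (k + 1) g → Good x g := fun k hk g hg => good_short hσ hφ hx hP hk hg
  -- words ending with the pair
  have hF : ∀ k, 1 ≤ k → k ≤ 7 → ∀ g, Cell hσ false k g → Good x g := by
    intro k hk1 hk7 g hg
    obtain ⟨b₁, h₁, b₂, h₂, rfl⟩ := hg
    have hb := mul_mem h₂ h₁
    obtain ⟨j, rfl⟩ : ∃ j, k = j + 1 := ⟨k - 1, by omega⟩
    rcases j with _ | j
    · refine Good.of_conj (ng hσ true * b₂) (hT 2 (by omega) _ ?_)
      have hr : ng hσ true * b₂ * (b₁ * wn hσ false 1 * b₂) * (ng hσ true * b₂)⁻¹ =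
          ng hσ true * (b₂ * b₁) * wn hσ false 1 * ng hσ true * (ng hσ true * ng hσ true)⁻¹ := by group
      rw [hr]
      have hlead : lead true 2 = true := rfl
      obtain ⟨c₁, hc₁, c₂, hc₂, e⟩ := cell_lead hσ 2 true (by omega) _ hb
      rw [hlead] at e
      refine ⟨c₁, hc₁, c₂ * (ng hσ true * ng hσ true)⁻¹,
        mul_mem hc₂ (inv_mem (H_le_B hσ (ReeF4Out.ng_sq hσ true))), ?_⟩
      rw [show wn hσ true 2 = wn hσ false 1 * ng hσ true from rfl, ← mul_assoc] at e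
      rw [e]; group
    · -- conjugate the last letter to the front
      refine Good.of_conj (ng hσ false * b₂) ?_
      have hr : ng hσ false * b₂ * (b₁ * wn hσ false (j + 1 + 1) * b₂) * (ng hσ false * b₂)⁻¹ =
          ng hσ false * (b₂ * b₁) * wn hσ true (j + 1) := by
        rw [show wn hσ false (j + 1 + 1) = wn hσ true (j + 1) * ng hσ false from rfl]; group
      rw [hr]
      rcases Nat.even_or_odd j with ⟨i, hi⟩ | ⟨i, hi⟩
      · have hlead : lead true (j + 1) = false := by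
          have : ∀ i : Fin 3, lead true (i.val + i.val + 1) = false := by decide
          rw [hi]; exact this ⟨i, by omega⟩
        have h := cell_lead hσ (j + 1) true (by omega) _ hb
        rw [hlead] at h
        exact hT (j + 1) (by omega) _ h
      · have hlead : lead true j = false := by
          have : ∀ i : Fin 3, lead true (2 * i.val + 1) = false := by decide
          rw [hi]; exact this ⟨i, by omega⟩
        have hw : wn hσ true (j + 1) = ng hσ false * wn hσ true j := by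
          have hL : ∀ i : Fin 3, WT true (2 * i.val + 1 + 1) = jl false ++ WT true (2 * i.val + 1) := by
            decide +kernel
          apply Subtype.ext
          rw [Subgroup.coe_mul, coe_wn hσ, coe_wn hσ, hi, hL ⟨i, by omega⟩, nProd_append]
          rfl
        rw [hw, ← mul_assoc]
        have h := cell_lead_double hσ hP j true (by omega) hb
        rw [hlead] at h
        rcases h with h | h
        · obtain ⟨j', rfl⟩ : ∃ j', j = j' + 1 := ⟨j - 1, by omega⟩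
          exact hT j' (by omega) _ h
        · exact hT j (by omega) _ h
  intro g hg
  -- a conjugate outside the Borel subgroup
  obtain ⟨z, hz⟩ : ∃ z, z * g * z⁻¹ ∉ Bw K m := by
    by_contra hall
    push Not at hall
    refine hg (Subgroup.mem_bot.1 ?_)
    rw [← core_trivial hσ]
    exact hall
  refine Good.of_conj z ?_
  rcases exists_cell hσ hz with ⟨k, hk, h⟩ | ⟨k, hk, h⟩
  · by_cases hk6 : k < 6
    · exact hT k hk6 _ h
    obtain rfl : k = 6 := by omega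
    obtain ⟨b₁, h₁, b₂, h₂, e⟩ := h
    rw [e]
    refine Good.of_conj (ng hσ true * b₂) ?_
    have hr : ng hσ true * b₂ * (b₁ * wn hσ true 7 * b₂) * (ng hσ true * b₂)⁻¹ =
        ng hσ true * (b₂ * b₁) * wn hσ false 6 := by
      rw [show wn hσ true 7 = wn hσ false 6 * ng hσ true from rfl]; group
    rw [hr]
    have hw : wn hσ false 6 = ng hσ true * wn hσ false 5 := by
      have hL : WT false 6 = jl true ++ WT false 5 := by decide +kernel
      apply Subtype.ext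
      rw [Subgroup.coe_mul, coe_wn hσ, coe_wn hσ, hL, nProd_append]
      rfl
    rw [hw, ← mul_assoc]
    have hlead : lead false 5 = true := rfl
    have h := cell_lead_double hσ hP 5 false (by omega) (mul_mem h₂ h₁)
    rw [hlead] at h
    rcases h with h | h
    · exact hF 5 (by omega) (by omega) _ h
    · exact hF 6 (by omega) (by omega) _ h
  · by_cases hk7 : k < 7
    · exact hF (k + 1) (by omega) (by omega) _ h
    · obtain rfl : k = 7 := by omega
      exact good_big hσ hφ hm hx hP h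

end

end CfsgLib.ReeF4Square
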