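import Mathlib

/-!
SL(2) in characteristic two: one class of odd prime order whose product with its inverse class contains
every element of nonzero trace.
-/

set_option autoImplicit false

namespace CfsgLib.ReeF4Square

open Matrix
open scoped MatrixGroups

variable {K : Type*} [Field K]

/-- the trace -/
def tr2 (M : SL(2, K)) : K := (M : Matrix (Fin 2) (Fin 2) K) 0 0 + (M : Matrix (Fin 2) (Fin 2) K) 1 1

theorem tr2_conj (P M : SL(2, K)) : tr2 (P * M * P⁻¹) = tr2 M := by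
  have h : ∀ A : SL(2, K), tr2 A = (A : Matrix (Fin 2) (Fin 2) K).trace := fun A =>
    (Matrix.trace_fin_two _).symm
  rw [h, h]
  show Matrix.trace (P.1 * M.1 * (P⁻¹).1) = Matrix.trace M.1
  rw [Matrix.trace_mul_comm, ← mul_assoc, show (P⁻¹).1 * P.1 = 1 from congrArg Subtype.val (inv_mul_cancel P),
    one_mul]

theorem tr2_inv (M : SL(2, K)) : tr2 M⁻¹ = tr2 M := by
  simp [tr2, adjugate_fin_two, add_comm]

section
variable (h2 : (2 : K) = 0)
include h2

theorem neg_eq2 (a : K) : -a = a := by linear_combination -a * h2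

/-- the companion matrix -/
def compM (T : K) : SL(2, K) := ⟨!![0, 1; 1, T], by rw [det_fin_two_of]; linear_combination -h2⟩

theorem coe_compM (T : K) : (compM h2 T).1 = !![0, 1; 1, T] := rfl

theorem sq_eq_one_of_tr (M : SL(2, K)) (hT : tr2 M = 0) : M * M = 1 := by
  have hd : M.1 0 0 * M.1 1 1 - M.1 0 1 * M.1 1 0 = 1 := by rw [← det_fin_two]; exact M.2
  have hT' : M.1 0 0 + M.1 1 1 = 0 := hT
  ext i j
  fin_cases i <;> fin_cases j <;> simp [Matrix.mul_apply, Fin.sum_univ_two]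
  · linear_combination M.1 0 0 * hT' - hd - h2
  · linear_combination M.1 0 1 * hT'
  · linear_combination M.1 1 0 * hT'
  · linear_combination M.1 1 1 * hT' - hd - h2

variable [Fintype K]

theorem sqrt2 (a : K) : ∃ b, b ^ 2 = a := by
  obtain ⟨b, hb⟩ := (Finite.injective_iff_surjective (f := fun x : K => x ^ 2)).1 (fun a b (h : a ^ 2 = b ^ 2) => by
    have : (a - b) ^ 2 = 0 := by linear_combination h + (b ^ 2 - a * b) * h2
    exact sub_eq_zero.1 ((pow_eq_zero_iff two_ne_zero).1 this)) a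
  exact ⟨b, hb⟩

theorem conj_compM_of_vec (M : SL(2, K)) (a b : K)
    (hD : a * (M.1 1 0 * a + M.1 1 1 * b) - b * (M.1 0 0 * a + M.1 0 1 * b) ≠ 0) :
    ∃ P : SL(2, K), M = P * compM h2 (tr2 M) * P⁻¹ := by
  set D := a * (M.1 1 0 * a + M.1 1 1 * b) - b * (M.1 0 0 * a + M.1 0 1 * b)
  obtain ⟨c, hc⟩ := sqrt2 h2 D⁻¹
  have hd : M.1 0 0 * M.1 1 1 - M.1 0 1 * M.1 1 0 = 1 := by rw [← det_fin_two]; exact M.2
  obtain ⟨P, hP⟩ : ∃ P : SL(2, K), P.1 = !![c * a, c * (M.1 0 0 * a + M.1 0 1 * b); c * b,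
      c * (M.1 1 0 * a + M.1 1 1 * b)] := ⟨⟨!![c * a, c * (M.1 0 0 * a + M.1 0 1 * b); c * b, c * (M.1 1 0 * a + M.1 1 1 * b)], by
    rw [det_fin_two_of]
    have : c ^ 2 * D = 1 := by rw [hc, inv_mul_cancel₀ hD]
    linear_combination this⟩, rfl⟩
  refine ⟨P, eq_mul_inv_iff_mul_eq.2 ?_⟩
  ext i j
  fin_cases i <;> fin_cases j <;> simp [hP, coe_compM h2, tr2, Matrix.mul_apply, Fin.sum_univ_two]
  all_goals first
    | ring1
    | linear_combination -(c * a) * hd - c * a * h2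
    | linear_combination -(c * b) * hd - c * b * h2

theorem conj_compM (M : SL(2, K)) (hT : tr2 M ≠ 0) : ∃ P : SL(2, K), M = P * compM h2 (tr2 M) * P⁻¹ := by
  by_cases h10 : M.1 1 0 = 0
  · by_cases h01 : M.1 0 1 = 0
    · refine conj_compM_of_vec h2 M 1 1 fun e => hT ?_
      show M.1 0 0 + M.1 1 1 = 0
      rw [h10, h01] at e
      linear_combination e + M.1 0 0 * h2
    · exact conj_compM_of_vec h2 M 0 1 (by simpa using h01)
  · exact conj_compM_of_vec h2 M 1 0 (by simpa using h10)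

theorem conj_of_tr {A B : SL(2, K)} (hA : tr2 A ≠ 0) (h : tr2 B = tr2 A) : ∃ P : SL(2, K), B = P * A * P⁻¹ := by
  obtain ⟨P, e⟩ := conj_compM h2 A hA
  obtain ⟨Q, e'⟩ := conj_compM h2 B (by rwa [h])
  rw [h] at e'
  generalize compM h2 (tr2 A) = C at e e'
  subst e e'
  exact ⟨Q * P⁻¹, by group⟩

/-- every element of nonzero trace is a product of two elements of any prescribed nonzero trace -/
theorem split_tr {τ : K} {M : SL(2, K)} (hM : tr2 M ≠ 0) :
    ∃ A : SL(2, K), tr2 A = τ ∧ tr2 (A⁻¹ * M) = τ := by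
  obtain ⟨P, e⟩ := conj_compM h2 M hM
  set T := tr2 M
  obtain ⟨r, hr⟩ := sqrt2 h2 (τ / T * (τ + τ / T) + 1)
  obtain ⟨A, hA⟩ : ∃ A : SL(2, K), A.1 = !![τ / T, r; r, τ + τ / T] := ⟨⟨!![τ / T, r; r, τ + τ / T], by
    rw [det_fin_two_of]; linear_combination -hr - h2⟩, rfl⟩
  refine ⟨P * A * P⁻¹, ?_, ?_⟩
  · rw [tr2_conj]
    simp [tr2, hA]
    linear_combination (τ / T) * h2
  · rw [e, show (P * A * P⁻¹)⁻¹ * (P * compM h2 T * P⁻¹) = P * (A⁻¹ * compM h2 T) * P⁻¹ by group, tr2_conj]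
    simp [tr2, hA, coe_compM h2, Matrix.mul_apply, Fin.sum_univ_two, adjugate_fin_two, neg_eq2 h2]
    have : τ / T * T = τ := div_mul_cancel₀ τ hM
    linear_combination this + r * h2

/-- an element of odd prime order dividing `q + 1` covers with its inverse class -/
theorem exists_elliptic : ∃ (p : ℕ) (y : SL(2, K)), p.Prime ∧ Odd p ∧ Nat.Coprime p (Fintype.card K - 1) ∧
    y ^ p = 1 ∧ (∃ w : SL(2, K), y⁻¹ = w * y * w⁻¹) ∧
    ∀ M : SL(2, K), (M = 1 ∨ tr2 M ≠ 0) → ∃ a b : SL(2, K), M = a * y * a⁻¹ * (b * y⁻¹ * b⁻¹) := by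
  classical
  have : CharP K 2 := by
    have := ringChar.charP K
    rcases (Nat.dvd_prime Nat.prime_two).1 (ringChar.dvd (R := K) (x := 2) (by exact_mod_cast h2)) with e | e
    · exact absurd e CharP.ringChar_ne_one
    · exact ringChar.of_eq e
  obtain ⟨n, -, hn⟩ := FiniteField.card K 2
  set q := Fintype.card K with hq
  have hqe : Even q := by rw [hn]; exact (Nat.even_pow).2 ⟨even_two, n.pos.ne'⟩
  have hq1 : 1 < q := Fintype.one_lt_card
  set p := (q + 1).minFac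
  have hp : p.Prime := Nat.minFac_prime (by omega)
  have hpd : p ∣ q + 1 := Nat.minFac_dvd _
  have hpo : Odd p := by
    rcases hp.eq_two_or_odd' with e | e
    · exfalso; rw [e] at hpd
      obtain ⟨k, hk⟩ := hqe
      omega
    · exact e
  have hcop : Nat.Coprime p (q - 1) := by
    rw [hp.coprime_iff_not_dvd]
    intro h
    have h' := Nat.dvd_sub hpd h
    rw [show q + 1 - (q - 1) = 2 by omega] at h'
    rw [(Nat.prime_dvd_prime_iff_eq hp Nat.prime_two).1 h'] at hpo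
    exact absurd hpo (by decide)
  have : Fact p.Prime := ⟨hp⟩
  obtain ⟨g, hg⟩ := exists_prime_orderOf_dvd_card' (G := GL (Fin 2) K) p (by
    rw [Nat.card_eq_fintype_card, ← Nat.card_eq_fintype_card, Matrix.card_GL_field]
    rw [Fin.prod_univ_two]
    simp only [Fin.val_zero, Fin.val_one, pow_zero, pow_one]
    refine dvd_mul_of_dvd_left (hpd.trans ⟨q - 1, ?_⟩) _
    rw [← Nat.sq_sub_sq, one_pow])
  have hgp : g ^ p = 1 := by rw [← hg]; exact pow_orderOf_eq_one g
  have hdet : GeneralLinearGroup.det g = 1 := by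
    have h1 : GeneralLinearGroup.det g ^ p = 1 := by rw [← map_pow, hgp, map_one]
    have h3 : GeneralLinearGroup.det g ^ (q - 1) = 1 := by
      rw [hq, ← Fintype.card_units]; exact pow_card_eq_one
    have := pow_gcd_eq_one.2 ⟨h1, h3⟩
    rwa [hcop.gcd_eq_one, pow_one] at this
  let y : SL(2, K) := ⟨(g : Matrix (Fin 2) (Fin 2) K), congrArg Units.val hdet⟩
  have hyp : y ^ p = 1 := by
    apply Subtype.ext
    show (y : Matrix (Fin 2) (Fin 2) K) ^ p = 1
    simpa using congrArg Units.val hgp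
  have hy1 : y ≠ 1 := fun e => by
    have : g = 1 := Units.ext (congrArg Subtype.val e)
    rw [this, orderOf_one] at hg
    exact hp.ne_one hg.symm
  have hτ : tr2 y ≠ 0 := fun e => hy1 (by
    have h := sq_eq_one_of_tr h2 y e
    have := pow_gcd_eq_one.2 ⟨hyp, (pow_two y).trans h⟩
    rwa [((Nat.coprime_primes hp Nat.prime_two).2 (fun e' => by rw [e'] at hpo; exact absurd hpo (by decide))).gcd_eq_one,
      pow_one] at this)
  have hτ' : tr2 y⁻¹ ≠ 0 := by rwa [tr2_inv]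
  refine ⟨p, y, hp, hpo, hcop, hyp, conj_of_tr h2 hτ (tr2_inv y), ?_⟩
  rintro M (rfl | hM)
  · exact ⟨1, 1, by group⟩
  · obtain ⟨A, h1, h3⟩ := split_tr h2 (τ := tr2 y) hM
    obtain ⟨a, ha⟩ := conj_of_tr h2 hτ h1
    obtain ⟨b, hb⟩ := conj_of_tr h2 hτ' (show tr2 (A⁻¹ * M) = tr2 y⁻¹ by rw [h3, tr2_inv])
    exact ⟨a, b, by rw [← ha, ← hb, mul_inv_cancel_left]⟩

end

end CfsgLib.ReeF4Square
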