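import Cfsg.Agent.Lib.ReeF4Square.TitsNF

/-!
2F4(2): kernel checks of the forest of conjugations between Bruhat forms.
-/

set_option autoImplicit false
set_option linter.unusedSectionVars false
set_option maxRecDepth 100000
set_option maxHeartbeats 4000000

namespace CfsgLib.ReeF4Square.Tits

open Cfsg.Lie CfsgLib.Chev CfsgLib.ReeF4 CfsgLib.ReeF4Out CfsgLib.ReeF4Tits CfsgLib.ReeF4Square.TitsData

/-- the parity of a code -/
def par (c : ℕ) : Bool := ((bitAt c 1 ^^ bitAt c 3) ^^ bitAt c 4) ^^ bitAt c 5

/-- the word of the base element -/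
def xWord : List ℕ := [0, 12]

/-- the entry of a state -/
def fEnt (w c : ℕ) : ℕ := ent (forest.getD w 0) c

/-- the depth of a state -/
def depth (w c : ℕ) : ℕ := Nat.shiftRight (fEnt w c) 5

/-- a target is admissible -/
def lower (d w c : ℕ) : Bool := Nat.blt w 16 && Nat.blt c 4096 && !par c && Nat.blt (depth w c) d

/-- the witness of a root of the forest is right -/
def rootOK (w c : ℕ) : Bool :=
  match rootWitness.find? fun e => Nat.beq e.1.1 w && Nat.beq e.1.2 c with
  | none => false
  | some e => isOneW (e.2.1 ++ e.2.2) &&
    match evalL (0, 0, 0) (xWord ++ e.2.1 ++ xWord ++ e.2.2) with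
    | none => false
    | some g => Nat.beq g.2.1 w && Nat.beq (mulc g.2.2 g.1) c

/-- an edge by a unipotent conjugator is right -/
def unipOK (d w c i : ℕ) : Bool :=
  Nat.blt i 12 && sgOK w (invGen.getD i 0) && Nat.beq (mulc (2 ^ i) (invGen.getD i 0)) 0 &&
    lower d w (mulc (Lf i c) (sgm w (invGen.getD i 0)))

/-- right multiplication by the letters of a Weyl word -/
def rnL : ℕ × ℕ × ℕ → List Bool → Option (ℕ × ℕ × ℕ)
  | g, [] => some g
  | g, t :: ts => (rn g t).bind fun g' => rnL g' ts

/-- right multiplication by a code -/
def rc (g : ℕ × ℕ × ℕ) (c : ℕ) : ℕ × ℕ × ℕ := (g.1, g.2.1, mulc g.2.2 c)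

/-- the form of a state conjugated by a reflection times a code -/
def extNF (w c : ℕ) (e : Bool × ℕ × ℕ) : Option (ℕ × ℕ × ℕ) :=
  (rn (0, 0, 0) e.1).bind fun g => (rnL (rc (rc g e.2.1) c) (ww w)).bind fun g' => rn (rc g' e.2.2) e.1

/-- an edge by a conjugator with a reflection is right -/
def extOK (d w c j : ℕ) : Bool :=
  let e := extEdges.getD j (false, 0, 0)
  Nat.blt e.2.1 4096 && Nat.beq (mulc e.2.1 e.2.2) 0 &&
    match extNF w c e with
    | none => false
    | some g => lower d g.2.1 (mulc g.2.2 g.1)

/-- one state is right -/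
def stateOK (w c : ℕ) : Bool :=
  let t := Nat.land (fEnt w c) 31
  bif Nat.beq t 0 then rootOK w c
  else bif Nat.blt t 13 then unipOK (depth w c) w c (t - 1)
  else extOK (depth w c) w c (t - 13)

/-- the states of one Weyl element are right -/
noncomputable def forestOK (w : ℕ) : Bool := allNat 4096 fun c => par c || stateOK w c

theorem forest_0 : forestOK 0 = true := by decide +kernel
theorem forest_1 : forestOK 1 = true := by decide +kernel
theorem forest_2 : forestOK 2 = true := by decide +kernel
theorem forest_3 : forestOK 3 = true := by decide +kernel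
theorem forest_4 : forestOK 4 = true := by decide +kernel
theorem forest_5 : forestOK 5 = true := by decide +kernel
theorem forest_6 : forestOK 6 = true := by decide +kernel
theorem forest_7 : forestOK 7 = true := by decide +kernel
theorem forest_8 : forestOK 8 = true := by decide +kernel
theorem forest_9 : forestOK 9 = true := by decide +kernel
theorem forest_10 : forestOK 10 = true := by decide +kernel
theorem forest_11 : forestOK 11 = true := by decide +kernel
theorem forest_12 : forestOK 12 = true := by decide +kernel
theorem forest_13 : forestOK 13 = true := by decide +kernel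
theorem forest_14 : forestOK 14 = true := by decide +kernel
theorem forest_15 : forestOK 15 = true := by decide +kernel

theorem forest_all : ∀ w < 16, forestOK w = true
  | 0, _ => forest_0
  | 1, _ => forest_1
  | 2, _ => forest_2
  | 3, _ => forest_3
  | 4, _ => forest_4
  | 5, _ => forest_5
  | 6, _ => forest_6
  | 7, _ => forest_7
  | 8, _ => forest_8
  | 9, _ => forest_9
  | 10, _ => forest_10
  | 11, _ => forest_11
  | 12, _ => forest_12
  | 13, _ => forest_13
  | 14, _ => forest_14
  | 15, _ => forest_15
  | n + 16, h => absurd h (by omega)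

theorem x_ok : isOneW (xWord ++ xWord ++ xWord) = true := by decide +kernel

theorem y_ok : isOneW (yWord ++ yInvWord) = true ∧
    isOneW (yWord ++ xWord ++ yInvWord ++ xWord ++ xWord) = true ∧
    yWord.all (fun i => Nat.blt i 12) = true ∧ (yWord.filter fun i => agens.getD i false).length % 2 = 1 := by
  decide +kernel

end CfsgLib.ReeF4Square.Tits
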