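import Cfsg.Agent.Lib.ReeF4Square.TitsForest
import Cfsg.Agent.Lib.ReeF4Square.Main

/-!
2F4(2): every nontrivial element of the derived group is a product of two conjugates of one element of
order three.
-/

set_option autoImplicit false
set_option linter.unusedSectionVars false
set_option maxRecDepth 100000
set_option maxHeartbeats 4000000

namespace CfsgLib.ReeF4Square.Tits

open Cfsg.Lie CfsgLib.Chev CfsgLib.ReeF4 CfsgLib.ReeF4Out CfsgLib.ReeF4Tits CfsgLib.ReeF4Square.TitsData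
open CfsgLib.TitsTTW (GG)
open CfsgLib.TitsSchur (OK)

variable {σ : MulAut ↥(chevF4.group (ZMod 2))}

theorem agens_kind : ∀ i : Fin 12, agens.getD i false = Nat.beq (genPos.getD i (0, 0)).2 1 := by decide +kernel

theorem class_code : ∀ k : Fin 8, ∀ e : Fin 4, e.val < bn (sideAt false k) →
    (classCodes.getD k []).getD e 0 < 4096 ∧
      wordOK (cw false k e) (pMUp 12 ((classCodes.getD k []).getD e 0)) = true := by decide +kernel

theorem rev_index : ∀ s : Bool, ∀ k : Fin 9, ∃ w : Fin 16, ∀ r : Fin 48,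
    sigs chevF4 tb (revW s k) r = sigs chevF4 tb (wL w) r := by decide +kernel

theorem y_code : evalL (0, 0, 0) yWord = some (0, 0, 2260) ∧ par 2260 = true := by decide +kernel

/-- the parity of the bits below a bound -/
def parUp : ℕ → ℕ → Bool
  | 0, _ => false
  | n + 1, c => parUp n c ^^ (bitAt c n && agens.getD n false)

theorem parUp_eq (c : ℕ) : parUp 12 c = par c := by
  simp [parUp, par, agens]

section
variable (hσ : IsSigma 0 σ)
include hσ

theorem a_notMem : qg hσ true (1 : ZMod 2) 0 ∉ commutator GT := fun ha => by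
  have h := index_derived hσ
  have htop : commutator GT = ⊤ := top_le_iff.1 ((gen_top hσ).ge.trans
    (sup_le le_rfl (Subgroup.zpowers_le.2 ha)))
  rw [htop, Subgroup.index_top] at h
  omega

theorem gg_mem {i : ℕ} (hi : i < 12) : gg hσ i ∈ commutator GT ↔ agens.getD i false = false := by
  rw [agens_kind ⟨i, hi⟩, gg, conj_mem_iff hσ]
  rcases (genPos.getD i (0, 0)).2 with _ | _ | k
  · exact iff_of_true (p_mem hσ) rfl
  · exact iff_of_false (a_notMem hσ) (by decide)
  · exact iff_of_true (a2_mem hσ) rfl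

theorem ng_mem (t : Bool) : ng hσ t ∈ commutator GT := by
  have hp := p_mem hσ
  have ha2 := a2_mem hσ
  cases t
  · have h := (conj_mem_iff hσ (D := commutator GT) (n := ng hσ false)).2 hp
    rw [ng_conj_pg] at h
    rw [ng_false_eq hσ, NP, inv_one]
    exact mul_mem (mul_mem hp h) hp
  · have h := (conj_mem_iff hσ (D := commutator GT) (n := ng hσ true)).2 ha2
    rw [ng_conj_qg] at h
    have hA : qg hσ true (1 : ZMod 2) 1 = qg hσ true (1 : ZMod 2) 0 * qg hσ true (0 : ZMod 2) 1 := by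
      rw [qg_mul]; simp
    set a := qg hσ true (1 : ZMod 2) 0
    rw [ng_true_eq, hA, show a * qg hσ false (0 : ZMod 2) 1 * (a * qg hσ true (0 : ZMod 2) 1) =
      (a * qg hσ false (0 : ZMod 2) 1 * a⁻¹) * ((a * a) * qg hσ true (0 : ZMod 2) 1) by group]
    exact mul_mem ((conj_mem_iff hσ (D := commutator GT)).2 h) (mul_mem (a_sq hσ ▸ ha2) ha2)

theorem WN_mem (w : ℕ) : WN hσ w ∈ commutator GT :=
  Subgroup.list_prod_mem _ fun z hz => by
    obtain ⟨t, -, rfl⟩ := List.mem_map.1 hz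
    exact ng_mem hσ t

theorem pUp_mem (c : ℕ) : ∀ n ≤ 12, (pUp hσ n c ∈ commutator GT ↔ parUp n c = false) := by
  intro n
  induction n with
  | zero => exact fun _ => iff_of_true (one_mem _) rfl
  | succ n ih =>
    intro hn
    rw [pUp, parUp]
    cases bitAt c n
    · simpa using ih (by omega)
    · rw [if_pos rfl, Subgroup.mul_mem_iff_of_index_two (index_derived hσ), ih (by omega), gg_mem hσ (by omega)]
      cases parUp n c <;> cases agens.getD n false <;> simp

theorem pr_mem (c : ℕ) : pr hσ c ∈ commutator GT ↔ par c = false := by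
  rw [← parUp_eq]; exact pUp_mem hσ c 12 le_rfl

theorem iroot_code : ∀ k ≤ 8, ∀ g ∈ V σ (IRoot false k), ∃ c < 4096, g = (pr hσ c : GG) := by
  intro k hk
  induction k with
  | zero =>
    intro g hg
    have : V σ (IRoot false 0) = ⊥ := by
      refine eq_bot_iff.2 (inf_le_left.trans ?_)
      refine uGen_le_iff.2 fun r hr h => ?_
      exact absurd h.2 (Nat.not_lt.2 h.1)
    rw [this, Subgroup.mem_bot] at hg
    exact ⟨0, by norm_num, by rw [hg, pr_zero]; rfl⟩
  | succ k ih =>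
    intro g hg
    obtain ⟨a, ha, b, hb, rfl⟩ := fixed_components hσ (P := IRoot false (k + 1)) (Q := IRoot false k)
      (R := SRoot false k) (closedPos_inv hc _) (closedPos_inv hc _) (closedPos_sroot false k)
      (fun r hr a b => absurd a.2 (Nat.not_lt.2 b.2.1))
      (fun r hr => (iroot_split (by omega) hr).1) (fun r hr => iroot_rho (by omega) hr)
      (fun r hr => sroot_rho (by omega) hr) hg
    obtain ⟨c, hc', rfl⟩ := ih (by omega) a ha
    obtain ⟨e, he, rfl⟩ := class_elem hσ (by omega) hb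
    obtain ⟨hcode, hw⟩ := class_code ⟨k, by omega⟩ e he
    have hmem : ∀ r ∈ (bw (sideAt false k)).getD e [], r < 48 := by
      intro r hr
      rcases Nat.lt_or_ge e.val (bw (sideAt false k)).length with h | h
      · rw [List.getD_eq_getElem _ _ h] at hr
        exact bw_lt _ _ (List.getElem_mem h) r hr
      · rw [List.getD_eq_default _ _ h] at hr
        exact absurd hr (by simp)
    have e1 := OK.eq (OK_of_wordOK hw) (OK_pr hσ ((classCodes.getD k []).getD e 0))
    obtain ⟨h1, h2⟩ := mulc_spec hσ hc' ((classCodes.getD k []).getD e 0)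
    refine ⟨_, h1, ?_⟩
    rw [h2, Subgroup.coe_mul, ← e1, cw, ← nu_conj hσ _ _ hmem]
    rfl

theorem U_code {g : GG} (hg : g ∈ V σ PosR) : ∃ c < 4096, g = (pr hσ c : GG) := by
  rw [V_pos_eq hσ false] at hg
  exact iroot_code hσ 8 le_rfl g hg

/-- the element of a state -/
noncomputable def El (w c : ℕ) : GT := pr hσ c * WN hσ w

theorem rnL_spec : ∀ (l : List Bool) (g g' : ℕ × ℕ × ℕ), InR g → rnL g l = some g' →
    InR g' ∧ val hσ g' = val hσ g * (l.map (ng hσ)).prod
  | [], g, g', hg, h => by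
    rw [rnL, Option.some.injEq] at h; subst h
    exact ⟨hg, by simp⟩
  | t :: ts, g, g', hg, h => by
    rw [rnL, Option.bind_eq_some_iff] at h
    obtain ⟨g1, h1, h2⟩ := h
    obtain ⟨r1, e1⟩ := rn_spec hσ hg h1
    obtain ⟨r2, e2⟩ := rnL_spec ts g1 g' r1 h2
    exact ⟨r2, by rw [e2, e1, mul_assoc]; simp⟩

theorem rc_spec {g : ℕ × ℕ × ℕ} (hg : InR g) (c : ℕ) :
    InR (rc g c) ∧ val hσ (rc g c) = val hσ g * pr hσ c := by
  obtain ⟨h1, h2⟩ := mulc_spec hσ hg.2.2 c
  refine ⟨⟨hg.1, hg.2.1, h1⟩, ?_⟩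
  rw [val, rc, h2, val]
  group

theorem good_val {x : GT} {g : ℕ × ℕ × ℕ} (hg : InR g)
    (h : Good x (El hσ g.2.1 (mulc g.2.2 g.1))) : Good x (val hσ g) := by
  refine Good.of_conj (pr hσ g.2.2) ?_
  rw [El, (mulc_spec hσ hg.2.2 g.1).2] at h
  rw [val]
  convert h using 1
  group

theorem xWord_val : wv hσ xWord = gg hσ 0 * ng hσ false := by
  simp [wv, xWord, lv]
  rfl

/-- the element of order three -/
noncomputable def xE : GT := wv hσ xWord

attribute [local irreducible] fEnt mulc sgm in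
theorem states : ∀ d w c : ℕ, w < 16 → c < 4096 → par c = false → depth w c = d →
    Good (xE hσ) (El hσ w c) := by
  intro d
  induction d using Nat.strong_induction_on with
  | _ d ih =>
    intro w c hw hc hp hd
    have h := allNat_iff.1 (forest_all w hw) c hc
    rw [hp, Bool.false_or, stateOK] at h
    simp only [hd] at h
    have low : ∀ w' c', lower d w' c' = true → Good (xE hσ) (El hσ w' c') := by
      intro w' c' hl
      simp only [lower, Bool.and_eq_true, Nat.blt_eq, Bool.not_eq_true'] at hl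
      exact ih _ hl.2 w' c' hl.1.1.1 hl.1.1.2 hl.1.2 rfl
    cases h0 : Nat.beq (Nat.land (fEnt w c) 31) 0
    swap
    · rw [h0, cond_true, rootOK] at h
      split at h
      · exact absurd h (by simp)
      next e he =>
      rw [Bool.and_eq_true] at h
      obtain ⟨hb, h⟩ := h
      split at h
      · exact absurd h (by simp)
      next g hg =>
      simp only [Bool.and_eq_true, Nat.beq_eq] at h
      obtain ⟨hR, e'⟩ := evalL_spec hσ _ _ g inR_zero hg
      rw [val_zero, one_mul, wv_append, wv_append, wv_append] at e'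
      have hinv : wv hσ e.2.2 = (wv hσ e.2.1)⁻¹ :=
        (inv_eq_of_mul_eq_one_right (by rw [← wv_append]; exact wv_one_of hσ hb)).symm
      have hgood : Good (xE hσ) (val hσ g) := ⟨1, wv hσ e.2.1, by rw [e', hinv, xE]; group⟩
      obtain ⟨a, b, eab⟩ := hgood
      refine ⟨pr hσ g.2.2 * a, pr hσ g.2.2 * b, ?_⟩
      rw [← h.1, ← h.2, El, (mulc_spec hσ hR.2.2 g.1).2]
      rw [val] at eab
      calc pr hσ g.2.2 * pr hσ g.1 * WN hσ g.2.1
          = pr hσ g.2.2 * (pr hσ g.1 * WN hσ g.2.1 * pr hσ g.2.2) * (pr hσ g.2.2)⁻¹ := by group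
        _ = _ := by rw [eab]; group
    rw [h0, cond_false] at h
    cases h13 : Nat.blt (Nat.land (fEnt w c) 31) 13
    swap
    · rw [h13, cond_true, unipOK] at h
      simp only [Bool.and_eq_true, Nat.blt_eq, Nat.beq_eq] at h
      generalize Nat.land (fEnt w c) 31 - 1 = i at h
      obtain ⟨⟨⟨hi, hs⟩, hinv⟩, hl⟩ := h
      have hz : pr hσ (invGen.getD i 0) = (gg hσ i)⁻¹ := by
        have h2 : (2 : ℕ) ^ i < 4096 :=
          (Nat.pow_lt_pow_right one_lt_two hi).trans_le (by norm_num)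
        have := (mulc_spec hσ h2 (invGen.getD i 0)).2
        rw [hinv, pr_zero, pr_two_pow hσ hi] at this
        exact eq_inv_of_mul_eq_one_right this.symm
      refine Good.of_conj (gg hσ i) ?_
      convert low _ _ hl using 1
      obtain ⟨-, hs'⟩ := sgm_spec hσ hw hs
      rw [El, El, (mulc_spec hσ (show Lf i c < 4096 from ent_lt _ _) _).2, lGood hσ i hi c hc, hs', hz]
      group
    rw [h13, cond_false, extOK] at h
    simp only [Bool.and_eq_true, Nat.blt_eq, Nat.beq_eq] at h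
    generalize extEdges.getD (Nat.land (fEnt w c) 31 - 13) (false, 0, 0) = e at h
    obtain ⟨⟨hzc, hzi⟩, h⟩ := h
    split at h
    · exact absurd h (by simp)
    next g hg =>
    rw [extNF, Option.bind_eq_some_iff] at hg
    obtain ⟨g0, h0', hg⟩ := hg
    rw [Option.bind_eq_some_iff] at hg
    obtain ⟨g1, h1, h2⟩ := hg
    obtain ⟨r0, e0⟩ := rn_spec hσ inR_zero h0'
    obtain ⟨ra, ea⟩ := rc_spec hσ r0 e.2.1
    obtain ⟨rb, eb⟩ := rc_spec hσ ra c
    obtain ⟨r1, e1⟩ := rnL_spec hσ _ _ g1 rb h1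
    obtain ⟨rd, ed⟩ := rc_spec hσ r1 e.2.2
    obtain ⟨r2, e2⟩ := rn_spec hσ rd h2
    have hzinv : pr hσ e.2.2 = (pr hσ e.2.1)⁻¹ :=
      (inv_eq_of_mul_eq_one_right (by rw [← (mulc_spec hσ hzc e.2.2).2, hzi, pr_zero])).symm
    refine Good.of_conj (ng hσ e.1 * pr hσ e.2.1) ?_
    convert good_val hσ r2 (low _ _ h) using 1
    rw [e2, ed, e1, eb, ea, e0, val_zero, hzinv, El, mul_inv_rev, ng_inv']
    show _ = _ * WN hσ w * _ * _
    group

theorem all_good {g : GT} (hg : g ∈ commutator GT) : Good (xE hσ) g := by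
  obtain ⟨u, hu, h, hh, s, k, v, hv, e⟩ := fixed_bruhat hσ (G1_le_fix hσ g.2)
  obtain rfl := diag_trivial hσ hh.1
  rw [one_mul] at e
  obtain ⟨cu, hcu, rfl⟩ := U_code hσ hu
  obtain ⟨cv, hcv, rfl⟩ := U_code hσ (V_mono (fun r hr h => h.1) hv)
  obtain ⟨w, hw⟩ := rev_index s k
  have hn : (pr hσ cu)⁻¹ * g * (pr hσ cv)⁻¹ = WN hσ w := WN_eq_of_sigs hσ (L := revW s k) (by
    rw [Subgroup.coe_mul, Subgroup.coe_mul, Subgroup.coe_inv, Subgroup.coe_inv, e]; group) hw
  have hgv : g = val hσ (cu, (w : ℕ), cv) := by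
    rw [val, ← hn]; group
  obtain ⟨hc1, hc2⟩ := mulc_spec hσ hcv cu
  rw [hgv] at hg ⊢
  refine good_val hσ ⟨hcu, w.2, hcv⟩ (states hσ _ w _ w.2 hc1 ?_ rfl)
  refine (pr_mem hσ _).1 ?_
  rw [hc2]
  rw [val] at hg
  have hm : pr hσ cu * WN hσ w * pr hσ cv ∈ commutator GT := hg
  have h1 := (conj_mem_iff hσ (D := commutator GT) (n := pr hσ cv)).2 hm
  rw [show pr hσ cv * (pr hσ cu * WN hσ w * pr hσ cv) * (pr hσ cv)⁻¹ =
    pr hσ cv * pr hσ cu * WN hσ w by group] at h1
  exact (Subgroup.mul_mem_cancel_right _ (WN_mem hσ w)).1 h1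

theorem xE_mem : xE hσ ∈ commutator GT := by
  rw [xE, xWord_val]
  exact mul_mem ((gg_mem hσ (by norm_num)).2 rfl) (ng_mem hσ _)

theorem xE_cube : xE hσ * xE hσ * xE hσ = 1 := by
  rw [xE, ← wv_append, ← wv_append]; exact wv_one_of hσ x_ok

theorem exists_outside : ∃ y : GT, y ∉ commutator GT ∧ y * xE hσ * y⁻¹ = xE hσ := by
  obtain ⟨h1, h2, -⟩ := y_ok
  refine ⟨wv hσ yWord, fun hy => ?_, ?_⟩
  · obtain ⟨-, e⟩ := evalL_spec hσ _ _ _ inR_zero y_code.1
    rw [val_zero, one_mul, val, pr_zero, WN_zero, one_mul, one_mul] at e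
    rw [← e, pr_mem hσ] at hy
    rw [y_code.2] at hy
    exact Bool.noConfusion hy
  · have hinv : wv hσ yInvWord = (wv hσ yWord)⁻¹ :=
      (inv_eq_of_mul_eq_one_right (by rw [← wv_append]; exact wv_one_of hσ h1)).symm
    have h := wv_one_of hσ h2
    simp only [wv_append, hinv] at h
    calc wv hσ yWord * xE hσ * (wv hσ yWord)⁻¹
        = (wv hσ yWord * xE hσ * (wv hσ yWord)⁻¹ * xE hσ * xE hσ) * (xE hσ * xE hσ)⁻¹ := by group
      _ = (xE hσ * xE hσ)⁻¹ := by rw [xE, h, one_mul]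
      _ = xE hσ := inv_eq_of_mul_eq_one_right (xE_cube hσ)

theorem tits_cover : ∃ x : ↥(commutator GT), Odd (orderOf x) ∧ ∀ g, g ≠ 1 → Good x g := by
  obtain ⟨y, hy, hyx⟩ := exists_outside hσ
  refine ⟨⟨xE hσ, xE_mem hσ⟩, ?_, fun g _ => ?_⟩
  · refine Odd.of_dvd_nat (show Odd 3 by decide) (orderOf_dvd_of_pow_eq_one (Subtype.ext ?_))
    show xE hσ ^ 3 = 1
    rw [pow_three, ← mul_assoc]; exact xE_cube hσ
  obtain ⟨a, b, e⟩ := all_good hσ g.2
  have adj : ∀ a : GT, ∃ a' : ↥(commutator GT), (a' : GT) * xE hσ * (a' : GT)⁻¹ = a * xE hσ * a⁻¹ := by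
    intro a
    by_cases ha : a ∈ commutator GT
    · exact ⟨⟨a, ha⟩, rfl⟩
    · refine ⟨⟨a * y, (Subgroup.mul_mem_iff_of_index_two (index_derived hσ)).2 (iff_of_false ha hy)⟩, ?_⟩
      show a * y * xE hσ * (a * y)⁻¹ = _
      rw [show a * y * xE hσ * (a * y)⁻¹ = a * (y * xE hσ * y⁻¹) * a⁻¹ by group, hyx]
  obtain ⟨a', ha⟩ := adj a
  obtain ⟨b', hb⟩ := adj b
  refine ⟨a', b', Subtype.ext ?_⟩
  show (g : GT) = (a' : GT) * xE hσ * (a' : GT)⁻¹ * ((b' : GT) * xE hσ * (b' : GT)⁻¹)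
  rw [ha, hb, e]

end

end CfsgLib.ReeF4Square.Tits
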