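import Cfsg.Agent.Lib.TitsSchur.Mat
import Cfsg.Agent.Lib.ReeF4Tits.Derived
import Cfsg.Agent.Lib.ReeF4Square.TitsData

/-!
2F4(2): twelve generators of the unipotent group and their matrices.
-/

set_option autoImplicit false
set_option linter.unusedSectionVars false
set_option maxRecDepth 100000

namespace CfsgLib.ReeF4Square.Tits

open Cfsg.Lie CfsgLib.Chev CfsgLib.ReeF4 CfsgLib.ReeF4Out CfsgLib.ReeF4Tits CfsgLib.ReeF4Square.TitsData
open CfsgLib.TitsTTW (GG wd wd_def)
open CfsgLib.TitsSchur (OK prodM rootCheck)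

variable {σ : MulAut ↥(chevF4.group (ZMod 2))}

/-- the group -/
abbrev GT : Type := ↥(G1 (ZMod 2) 0)

/-- the matrix of a root -/
def rM (r : ℕ) : List ℕ := rootMats.getD (roots.idxOf r) []

/-- the matrices of all roots used are right -/
noncomputable def rootsOK : Bool := roots.all fun r => rootCheck r (rM r)

theorem rootsOK_eq : rootsOK = true := by decide +kernel

theorem wd_eq_xw (l : List ℕ) : wd l = xw (ZMod 2) l := by rw [wd_def]; rfl

theorem wd_prod : ∀ l : List ℕ, xw (ZMod 2) l = (l.map fun r => wd [r]).prod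
  | [] => rfl
  | r :: l => by
    rw [List.map_cons, List.prod_cons, ← wd_prod l, wd_eq_xw]
    simp [xw]

theorem OK_xw {l : List ℕ} (h : l.all (fun r => roots.contains r) = true) :
    OK (prodM (l.map rM)) (xw (ZMod 2) l) := by
  rw [wd_prod]
  refine OK.prod rM _ l fun r hr => OK.root ?_
  have h1 := List.all_eq_true.1 rootsOK_eq r
  exact h1 (by simpa using List.all_eq_true.1 h r hr)

/-- a word is checked to have the matrix `M` -/
def wordOK (l : List ℕ) (M : List ℕ) : Bool := l.all (fun r => roots.contains r) && prodM (l.map rM) == M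

theorem OK_of_wordOK {l M : List ℕ} (h : wordOK l M = true) : OK M (xw (ZMod 2) l) := by
  simp only [wordOK, Bool.and_eq_true, beq_iff_eq] at h
  exact h.2 ▸ OK_xw h.1

/-- the base words of the three kinds -/
def bwK : ℕ → List ℕ
  | 0 => [33, 24]
  | 1 => [25, 27, 30]
  | _ => [28, 30]

/-- the word of a generator -/
def gw (i : ℕ) : List ℕ := genWords.getD i []

/-- the matrix of a generator -/
def gM (i : ℕ) : List ℕ := genMats.getD i []

theorem gw_eq : ∀ i : Fin 12, (genPos.getD i (0, 0)).1 < 8 ∧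
    (bwK (genPos.getD i (0, 0)).2).map (sigs chevF4 tb (altW false (genPos.getD i (0, 0)).1)) = gw i := by
  decide +kernel

theorem gM_ok : ∀ i : Fin 12, wordOK (gw i) (gM i) = true := by decide +kernel

theorem bwK_lt : ∀ k, ∀ r ∈ bwK k, r < 48 := by
  intro k r hr
  rcases k with _ | _ | k <;> simp [bwK] at hr <;> omega

section
variable (hσ : IsSigma 0 σ)
include hσ

/-- the elements of the three kinds -/
noncomputable def base : ℕ → GT
  | 0 => pg hσ true (1 : ZMod 2)
  | 1 => qg hσ true (1 : ZMod 2) 0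
  | _ => qg hσ true (0 : ZMod 2) 1

theorem coe_base : ∀ k, (base hσ k : GG) = xw (ZMod 2) (bwK k)
  | 0 => coe_p hσ
  | 1 => coe_a hσ
  | _ + 2 => coe_a2 hσ

/-- the generators -/
noncomputable def gg (i : ℕ) : GT :=
  nuG hσ false (genPos.getD i (0, 0)).1 * base hσ (genPos.getD i (0, 0)).2 *
    (nuG hσ false (genPos.getD i (0, 0)).1)⁻¹

theorem coe_gg {i : ℕ} (hi : i < 12) : (gg hσ i : GG) = xw (ZMod 2) (gw i) := by
  rw [gg, coe_nuG_conj hσ _ _ (bwK_lt _) (coe_base hσ _), (gw_eq ⟨i, hi⟩).2]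

theorem OK_gg {i : ℕ} (hi : i < 12) : OK (gM i) (gg hσ i : GG) := by
  rw [coe_gg hσ hi]; exact OK_of_wordOK (gM_ok ⟨i, hi⟩)

end

/-- equality from equal matrices -/
theorem eq_of_ok {A B : List ℕ} {g h : GT} (hg : OK A (g : GG)) (hh : OK B (h : GG)) (e : (A == B) = true) :
    g = h := Subtype.ext (OK.eq hg (eq_of_beq e ▸ hh))

theorem OK_mul {A B : List ℕ} {g h : GT} (hg : OK A (g : GG)) (hh : OK B (h : GG)) :
    OK (CfsgLib.TitsSchur.mul A B) ((g * h : GT) : GG) := OK.mul hg hh

theorem OK_one' : OK CfsgLib.TitsSchur.one ((1 : GT) : GG) := OK.one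

end CfsgLib.ReeF4Square.Tits
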