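import Cfsg.Agent.Lib.ReeF4Square.TitsTab
import Cfsg.Agent.Lib.ReeF4Square.Levi

/-!
2F4(2): exact arithmetic on Bruhat forms, by codes.
-/

set_option autoImplicit false
set_option linter.unusedSectionVars false
set_option maxRecDepth 100000
set_option maxHeartbeats 4000000

namespace CfsgLib.ReeF4Square.Tits

open Cfsg.Lie CfsgLib.Chev CfsgLib.ReeF4 CfsgLib.ReeF4Out CfsgLib.ReeF4Tits CfsgLib.ReeF4Square.TitsData
open CfsgLib.TitsTTW (GG)
open CfsgLib.TitsSchur (OK)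

variable {σ : MulAut ↥(chevF4.group (ZMod 2))}

/-- the word of a Weyl element -/
def ww (w : ℕ) : List Bool := weylWords.getD w []

/-- the roots of a Weyl element -/
def wL (w : ℕ) : List (Fin chevF4.rank) := (ww w).flatMap jl

/-- right multiplication in the Weyl group -/
def wstep (w : ℕ) (t : Bool) : ℕ := cond t (weylStep.getD w (0, 0)).2 (weylStep.getD w (0, 0)).1

/-- the index of a reflection -/
def jw (t : Bool) : ℕ := cond t 2 1

/-- the kept generators of `w` contain the code -/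
def sgOK (w c : ℕ) : Bool := Nat.beq (Nat.land c (sigBits.getD w 0)) c

/-- the code of a conjugate of a generator -/
def sigE (w i : ℕ) : ℕ := (sigTab.getD w []).getD i 0

/-- conjugation of a code by a Weyl element -/
def sgFrom : ℕ → ℕ → ℕ → ℕ → ℕ → ℕ
  | 0, _, _, d, _ => d
  | f + 1, i, w, d, c => sgFrom f (i + 1) w (bif bitAt c i then mulc d (sigE w i) else d) c

/-- conjugation of a code by a Weyl element -/
def sgm (w c : ℕ) : ℕ := sgFrom 12 0 w 0 c

/-- the elements of a root group, with inverses and rank one forms -/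
def cands (t : Bool) : List (ℕ × ℕ × ℕ × ℕ) := (0, 0, 0, 0) :: rankOne.getD (cond t 1 0) []

/-- right multiplication of a Bruhat form by a reflection -/
def rn (g : ℕ × ℕ × ℕ) (t : Bool) : Option (ℕ × ℕ × ℕ) :=
  match (cands t).find? fun q => sgOK (jw t) (mulc q.2.1 g.2.2) with
  | none => none
  | some q =>
    bif sgOK g.2.1 q.1 then
      some (mulc g.1 (sgm g.2.1 q.1), wstep g.2.1 t, sgm (jw t) (mulc q.2.1 g.2.2))
    else bif !Nat.beq q.1 0 && sgOK (wstep g.2.1 t) q.2.2.1 then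
      some (mulc g.1 (sgm (wstep g.2.1 t) q.2.2.1), g.2.1, mulc q.2.2.2 (sgm (jw t) (mulc q.2.1 g.2.2)))
    else none

/-- right multiplication by a letter -/
def step1 (g : ℕ × ℕ × ℕ) (l : ℕ) : Option (ℕ × ℕ × ℕ) :=
  bif Nat.blt l 12 then some (g.1, g.2.1, Rf l g.2.2) else rn g (Nat.beq l 13)

/-- evaluation of a word -/
def evalL : ℕ × ℕ × ℕ → List ℕ → Option (ℕ × ℕ × ℕ)
  | g, [] => some g
  | g, l :: ls => (step1 g l).bind fun g' => evalL g' ls

/-- a word is trivial -/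
def isOneW (ls : List ℕ) : Bool :=
  match evalL (0, 0, 0) ls with
  | none => false
  | some g => Nat.beq g.2.1 0 && Nat.beq (mulc g.1 g.2.2) 0

/-- the word of a reflection -/
def nW : Bool → List ℕ
  | false => [33, 24] ++ [14, 23] ++ [33, 24]
  | true => [25, 27, 30] ++ [19, 17] ++ ([25, 27, 30] ++ [28, 30])

theorem weyl_ok : ∀ w : Fin 16, ∀ t : Bool, wstep w t < 16 ∧ wstep (wstep w t) t = w ∧ jw t < 16 ∧
    ww (jw t) = [t] ∧ ∀ r : Fin 48,
      sigs chevF4 tb (wL w ++ jl t) r = sigs chevF4 tb (wL (wstep w t)) r := by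
  decide +kernel

/-- the conjugates of the generators are right -/
noncomputable def sigOK : Bool :=
  allNat 16 fun w => allNat 12 fun i => !bitAt (sigBits.getD w 0) i ||
    wordOK ((gw i).map (sigs chevF4 tb (wL w))) (pMUp 12 (sigE w i))

theorem sigOK_eq : sigOK = true := by decide +kernel

theorem gw_lt : ∀ i : Fin 12, ∀ r ∈ gw i, r < 48 := by decide +kernel

/-- the rank one forms are right -/
def candsOK (t : Bool) : Bool :=
  (cands t).all fun q => Nat.blt q.1 4096 && Nat.blt q.2.1 4096 && Nat.blt q.2.2.1 4096 && Nat.blt q.2.2.2 4096 &&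
    Nat.beq (mulc q.1 q.2.1) 0 && (Nat.beq q.1 0 ||
      (CfsgLib.TitsSchur.mul (CfsgLib.TitsSchur.mul (CfsgLib.TitsSchur.prodM ((nW t).map rM)) (pMUp 12 q.1))
          (CfsgLib.TitsSchur.prodM ((nW t).map rM)) ==
        CfsgLib.TitsSchur.mul (CfsgLib.TitsSchur.mul (pMUp 12 q.2.2.1) (CfsgLib.TitsSchur.prodM ((nW t).map rM)))
          (pMUp 12 q.2.2.2)))

theorem candsOK_eq : ∀ t, candsOK t = true := by decide +kernel

theorem nW_roots : ∀ t, (nW t).all (fun r => roots.contains r) = true := by decide +kernel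

section
variable (hσ : IsSigma 0 σ)
include hσ

/-- the monomial element of a Weyl element -/
noncomputable def WN (w : ℕ) : GT := ((ww w).map (ng hσ)).prod

theorem coe_WN (w : ℕ) : (WN hσ w : GG) = nProd chevF4 (ZMod 2) (wL w) := by
  rw [WN, wL]
  induction ww w with
  | nil => simp [nProd_nil]
  | cons t l ih =>
    rw [List.map_cons, List.prod_cons, Subgroup.coe_mul, ih, List.flatMap_cons, nProd_append]
    rfl

theorem coe_ng (t : Bool) : (ng hσ t : GG) = xw (ZMod 2) (nW t) := by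
  cases t
  · rw [ng_false_eq hσ, coe_NP, one_pow]
    rw [show elN chevF4 (ZMod 2) f4p1 1 * elN chevF4 (ZMod 2) f4p4 1 = (NP hσ (1 : ZMod 2) : GG) by
      rw [coe_NP, one_pow], NP, inv_one, Subgroup.coe_mul, Subgroup.coe_mul, coe_p hσ]
    rw [nW, xw_append, xw_append, show (pg hσ false (1 : ZMod 2) : GG) = xw (ZMod 2) [14, 23] by
      rw [coe_pg]; simp [xw, pR, show f4m1 = 14 from rfl, show f4m4 = 23 from rfl]]
    rfl
  · rw [ng_true_eq, show qg hσ true (1 : ZMod 2) 1 = qg hσ true (1 : ZMod 2) 0 * qg hσ true (0 : ZMod 2) 1 by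
        rw [qg_mul]; simp, Subgroup.coe_mul, Subgroup.coe_mul, Subgroup.coe_mul, coe_a hσ, coe_a2 hσ]
    rw [show (qg hσ false (0 : ZMod 2) 1 : GG) = xw (ZMod 2) [19, 17] by
      rw [coe_qg]
      simp [xw, qR, show f4mab = 19 from rfl, show f4maab = 17 from rfl,
        X_zero' hσ (show f4ma < 48 by decide), X_zero' hσ (show f4mb < 48 by decide)]]
    rw [nW, xw_append, xw_append, xw_append]
    rfl

theorem ng_sq' (t : Bool) : ng hσ t * ng hσ t = 1 := H_bot hσ (ReeF4Out.ng_sq hσ t)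

theorem ng_inv' (t : Bool) : (ng hσ t)⁻¹ = ng hσ t := inv_eq_of_mul_eq_one_right (ng_sq' hσ t)

theorem WN_eq_of_sigs {g : GT} {L : List (Fin chevF4.rank)} {w : ℕ}
    (hg : (g : GG) = nProd chevF4 (ZMod 2) L)
    (h : ∀ r : Fin 48, sigs chevF4 tb L r = sigs chevF4 tb (wL w) r) : g = WN hσ w := by
  refine mul_inv_eq_one.1 (H_bot hσ (K := ZMod 2) ?_)
  show (g : GG) * (WN hσ w : GG)⁻¹ ∈ chevF4.diagonalSubgroup (ZMod 2)
  rw [hg, coe_WN hσ]
  exact nProd_div_mem hc fun r hr => h ⟨r, hr⟩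

theorem WN_step {w : ℕ} (hw : w < 16) (t : Bool) : WN hσ w * ng hσ t = WN hσ (wstep w t) :=
  WN_eq_of_sigs hσ (L := wL w ++ jl t) (by rw [Subgroup.coe_mul, coe_WN hσ, nProd_append]; rfl)
    (weyl_ok ⟨w, hw⟩ t).2.2.2.2

theorem WN_jw (t : Bool) : WN hσ (jw t) = ng hσ t := by
  rw [WN, (weyl_ok 0 t).2.2.2.1]; simp

theorem WN_zero : WN hσ 0 = 1 := rfl

theorem sigE_spec {w i : ℕ} (hw : w < 16) (hi : i < 12) (hb : bitAt (sigBits.getD w 0) i = true) :
    WN hσ w * gg hσ i * (WN hσ w)⁻¹ = pr hσ (sigE w i) := by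
  have h := allNat_iff.1 (allNat_iff.1 sigOK_eq w hw) i hi
  rw [hb, Bool.not_true, Bool.false_or] at h
  refine Subtype.ext (OK.eq ?_ (OK_pr hσ _))
  rw [Subgroup.coe_mul, Subgroup.coe_mul, Subgroup.coe_inv, coe_WN hσ, coe_gg hσ hi,
    nu_conj hσ _ _ (gw_lt ⟨i, hi⟩)]
  exact OK_of_wordOK h

theorem sgFrom_spec {w : ℕ} (hw : w < 16) (c : ℕ) : ∀ f i, i + f ≤ 12 →
    (∀ k, i ≤ k → k < i + f → c.testBit k = true → bitAt (sigBits.getD w 0) k = true) →
    ∀ d < 4096, sgFrom f i w d c < 4096 ∧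
      pr hσ (sgFrom f i w d c) = pr hσ d * (WN hσ w * ((pUp hσ i c)⁻¹ * pUp hσ (i + f) c) * (WN hσ w)⁻¹) := by
  intro f
  induction f with
  | zero => intro i _ _ d hd; exact ⟨hd, by simp [sgFrom]⟩
  | succ f ih =>
    intro i hi hg d hd
    rw [sgFrom, bitAt_eq]
    cases hb : c.testBit i
    · obtain ⟨h1, h2⟩ := ih (i + 1) (by omega) (fun k a b => hg k (by omega) (by omega)) d hd
      refine ⟨h1, ?_⟩
      simp only [cond_false]
      rw [h2, show i + 1 + f = i + (f + 1) by omega]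
      rw [pUp, bitAt_eq, hb]; rfl
    · obtain ⟨h0, h0'⟩ := mulc_spec hσ hd (sigE w i)
      obtain ⟨h1, h2⟩ := ih (i + 1) (by omega) (fun k a b => hg k (by omega) (by omega)) _ h0
      refine ⟨h1, ?_⟩
      simp only [cond_true]
      rw [h2, h0', ← sigE_spec hσ hw (by omega) (hg i le_rfl (by omega) hb),
        show i + 1 + f = i + (f + 1) by omega, pUp, bitAt_eq, hb, if_pos rfl]
      group

theorem sgm_spec {w c : ℕ} (hw : w < 16) (h : sgOK w c = true) :
    sgm w c < 4096 ∧ pr hσ (sgm w c) = WN hσ w * pr hσ c * (WN hσ w)⁻¹ := by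
  have h' : c &&& sigBits.getD w 0 = c := Nat.eq_of_beq_eq_true h
  obtain ⟨h1, h2⟩ := sgFrom_spec hσ hw c 12 0 le_rfl (fun k _ _ hk => by
    rw [← h', Nat.testBit_and, Bool.and_eq_true] at hk
    rw [bitAt_eq]; exact hk.2) 0 (by norm_num)
  refine ⟨h1, ?_⟩
  rw [sgm, h2, pr_zero, one_mul, pUp, inv_one, one_mul]
  rfl

/-- the element of a Bruhat form -/
noncomputable def val (g : ℕ × ℕ × ℕ) : GT := pr hσ g.1 * WN hσ g.2.1 * pr hσ g.2.2

/-- a Bruhat form with entries in range -/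
def InR (g : ℕ × ℕ × ℕ) : Prop := g.1 < 4096 ∧ g.2.1 < 16 ∧ g.2.2 < 4096

theorem rn_spec {g g' : ℕ × ℕ × ℕ} (hg : InR g) {t : Bool} (h : rn g t = some g') :
    InR g' ∧ val hσ g' = val hσ g * ng hσ t := by
  obtain ⟨u, w, v⟩ := g
  obtain ⟨hu, hw, hv⟩ := hg
  rw [rn] at h
  split at h
  · exact absurd h (by simp)
  next q hq =>
  obtain ⟨a, ai, x1, x2⟩ := q
  simp only at h
  have hmem := List.mem_of_find?_eq_some hq
  have hsg := List.find?_some hq
  simp only at hsg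
  have hc := List.all_eq_true.1 (candsOK_eq t) _ hmem
  simp only [Bool.and_eq_true, Nat.blt_eq, Nat.beq_eq, Bool.or_eq_true] at hc
  obtain ⟨⟨⟨⟨⟨ha, hai⟩, hx1⟩, hx2⟩, hinv⟩, hro⟩ := hc
  obtain ⟨hws, hws2, hjw, -, -⟩ := weyl_ok ⟨w, hw⟩ t
  simp only at hws hws2 hjw
  have hainv : pr hσ a * pr hσ ai = 1 := by rw [← (mulc_spec hσ ha ai).2, hinv, pr_zero]
  obtain ⟨hr, hr'⟩ := mulc_spec hσ hai v
  obtain ⟨hsr, hsr'⟩ := sgm_spec hσ hjw hsg
  rw [WN_jw, hr', ng_inv'] at hsr'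
  have hv' : pr hσ v * ng hσ t = pr hσ a * ng hσ t * pr hσ (sgm (jw t) (mulc ai v)) := by
    rw [hsr']
    calc pr hσ v * ng hσ t = pr hσ a * pr hσ ai * pr hσ v * ng hσ t := by rw [hainv, one_mul]
      _ = pr hσ a * (ng hσ t * ng hσ t) * (pr hσ ai * pr hσ v) * ng hσ t := by rw [ng_sq']; group
      _ = _ := by group
  have e : val hσ (u, w, v) * ng hσ t =
      pr hσ u * WN hσ w * pr hσ a * ng hσ t * pr hσ (sgm (jw t) (mulc ai v)) := by
    rw [val, mul_assoc _ (pr hσ v), hv']; group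
  cases hA : sgOK w a
  · rw [hA, cond_false] at h
    cases hB : (!Nat.beq a 0 && sgOK (wstep w t) x1)
    · rw [hB, cond_false] at h; exact absurd h (by simp)
    rw [hB, cond_true, Option.some.injEq] at h
    subst h
    rw [Bool.and_eq_true, Bool.not_eq_true', ← Bool.not_eq_true] at hB
    rcases hro with h0 | hM
    · exact absurd (by rw [h0]; exact Nat.beq_refl 0) hB.1
    obtain ⟨hs1, hs1'⟩ := sgm_spec hσ hws hB.2
    obtain ⟨hp1, hp1'⟩ := mulc_spec hσ hu (sgm (wstep w t) x1)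
    obtain ⟨hp2, hp2'⟩ := mulc_spec hσ hx2 (sgm (jw t) (mulc ai v))
    refine ⟨⟨hp1, hw, hp2⟩, ?_⟩
    have hN : OK (CfsgLib.TitsSchur.prodM ((nW t).map rM)) (ng hσ t : GG) := by
      rw [coe_ng hσ]; exact OK_xw (nW_roots t)
    have e2 : ng hσ t * pr hσ a * ng hσ t = pr hσ x1 * ng hσ t * pr hσ x2 :=
      eq_of_ok (OK_mul (OK_mul hN (OK_pr hσ a)) hN) (OK_mul (OK_mul (OK_pr hσ x1) hN) (OK_pr hσ x2)) hM
    have hwn : WN hσ w = WN hσ (wstep w t) * ng hσ t := by rw [WN_step hσ hws, hws2]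
    rw [e, show val hσ (mulc u (sgm (wstep w t) x1), w, mulc x2 (sgm (jw t) (mulc ai v))) =
      pr hσ (mulc u (sgm (wstep w t) x1)) * WN hσ w * pr hσ (mulc x2 (sgm (jw t) (mulc ai v))) from rfl,
      hp1', hp2', hs1', hwn]
    calc pr hσ u * (WN hσ (wstep w t) * pr hσ x1 * (WN hσ (wstep w t))⁻¹) * (WN hσ (wstep w t) * ng hσ t) *
          (pr hσ x2 * pr hσ (sgm (jw t) (mulc ai v)))
        = pr hσ u * WN hσ (wstep w t) * (pr hσ x1 * ng hσ t * pr hσ x2) * pr hσ (sgm (jw t) (mulc ai v)) := by group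
      _ = _ := by rw [← e2]; group
  · rw [hA, cond_true, Option.some.injEq] at h
    subst h
    obtain ⟨hs1, hs1'⟩ := sgm_spec hσ hw hA
    obtain ⟨hp1, hp1'⟩ := mulc_spec hσ hu (sgm w a)
    refine ⟨⟨hp1, hws, hsr⟩, ?_⟩
    rw [e, show val hσ (mulc u (sgm w a), wstep w t, sgm (jw t) (mulc ai v)) =
      pr hσ (mulc u (sgm w a)) * WN hσ (wstep w t) * pr hσ (sgm (jw t) (mulc ai v)) from rfl,
      hp1', hs1', ← WN_step hσ hw]
    group

/-- the element of a letter -/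
noncomputable def lv (l : ℕ) : GT := if l < 12 then gg hσ l else ng hσ (Nat.beq l 13)

/-- the element of a word -/
noncomputable def wv (ls : List ℕ) : GT := (ls.map (lv hσ)).prod

theorem wv_append (a b : List ℕ) : wv hσ (a ++ b) = wv hσ a * wv hσ b := by simp [wv]

theorem step1_spec {g g' : ℕ × ℕ × ℕ} (hg : InR g) {l : ℕ} (h : step1 g l = some g') :
    InR g' ∧ val hσ g' = val hσ g * lv hσ l := by
  by_cases hl : l < 12
  · rw [step1, show Nat.blt l 12 = true from by rw [Nat.blt_eq]; exact hl, cond_true, Option.some.injEq] at h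
    subst h
    refine ⟨⟨hg.1, hg.2.1, ent_lt _ _⟩, ?_⟩
    rw [lv, if_pos hl, val, val]
    show pr hσ g.1 * WN hσ g.2.1 * pr hσ (Rf l g.2.2) = _
    rw [rGood hσ l hl g.2.2 hg.2.2, mul_assoc, mul_assoc, mul_assoc]
  · have hb : Nat.blt l 12 = false := by
      cases hb : Nat.blt l 12
      · rfl
      · rw [Nat.blt_eq] at hb; omega
    rw [step1, hb, cond_false] at h
    obtain ⟨h1, h2⟩ := rn_spec hσ hg h
    exact ⟨h1, by rw [h2, lv, if_neg hl]⟩

theorem evalL_spec : ∀ (ls : List ℕ) (g g' : ℕ × ℕ × ℕ), InR g → evalL g ls = some g' →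
    InR g' ∧ val hσ g' = val hσ g * wv hσ ls
  | [], g, g', hg, h => by
    rw [evalL, Option.some.injEq] at h; subst h
    exact ⟨hg, by simp [wv]⟩
  | l :: ls, g, g', hg, h => by
    rw [evalL, Option.bind_eq_some_iff] at h
    obtain ⟨g1, h1, h2⟩ := h
    obtain ⟨r1, e1⟩ := step1_spec hσ hg h1
    obtain ⟨r2, e2⟩ := evalL_spec ls g1 g' r1 h2
    refine ⟨r2, ?_⟩
    rw [e2, e1, mul_assoc]
    simp [wv]

omit hσ in
theorem inR_zero : InR (0, 0, 0) := ⟨by norm_num, by norm_num, by norm_num⟩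

theorem val_zero : val hσ (0, 0, 0) = 1 := by rw [val, pr_zero, WN_zero]; simp

theorem wv_one_of {ls : List ℕ} (h : isOneW ls = true) : wv hσ ls = 1 := by
  rw [isOneW] at h
  split at h
  · exact absurd h (by simp)
  next g hg =>
  rw [Bool.and_eq_true, Nat.beq_eq, Nat.beq_eq] at h
  obtain ⟨⟨hu, -, -⟩, e⟩ := evalL_spec hσ ls _ g inR_zero hg
  rw [val_zero, one_mul] at e
  rw [← e, val, h.1, WN_zero, mul_one, ← (mulc_spec hσ hu g.2.2).2, h.2, pr_zero]

end

end CfsgLib.ReeF4Square.Tits
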