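import Cfsg.Agent.Lib.ReeF4Square.TitsTabCheck

/-!
2F4(2): verified multiplication tables of the unipotent group.
-/

set_option autoImplicit false
set_option linter.unusedSectionVars false
set_option maxRecDepth 100000
set_option maxHeartbeats 4000000

namespace CfsgLib.ReeF4Square.Tits

open Cfsg.Lie CfsgLib.Chev CfsgLib.ReeF4 CfsgLib.ReeF4Out CfsgLib.ReeF4Tits CfsgLib.ReeF4Square.TitsData
open CfsgLib.TitsTTW (GG)
open CfsgLib.TitsSchur (OK)

variable {σ : MulAut ↥(chevF4.group (ZMod 2))}

theorem split_code {c : ℕ} (h0 : c ≠ 0) (hc : c < 4096) : ∃ j < 12, ∃ c' < 2 ^ j, c = 2 ^ j + c' := by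
  refine ⟨Nat.log 2 c, Nat.log_lt_of_lt_pow h0 (by simpa using hc), c - 2 ^ Nat.log 2 c, ?_, ?_⟩
  all_goals
    have h1 := Nat.pow_log_le_self 2 h0
    have h2 := Nat.lt_pow_succ_log_self one_lt_two c
    rw [pow_succ] at h2
    omega

section
variable (hσ : IsSigma 0 σ)
include hσ

/-- the product of the generators selected by a code, up to a bound -/
noncomputable def pUp : ℕ → ℕ → GT
  | 0, _ => 1
  | n + 1, c => if bitAt c n then pUp n c * gg hσ n else pUp n c

/-- the element of a code -/
noncomputable def pr (c : ℕ) : GT := pUp hσ 12 c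

theorem pUp_zero : ∀ n, pUp hσ n 0 = 1
  | 0 => rfl
  | n + 1 => by rw [pUp, pUp_zero n, bitAt_eq, Nat.zero_testBit]; rfl

theorem pr_zero : pr hσ 0 = 1 := pUp_zero hσ 12

theorem pUp_stable {c j : ℕ} (h : c < 2 ^ j) : ∀ n, j ≤ n → pUp hσ n c = pUp hσ j c := by
  intro n hn
  induction n, hn using Nat.le_induction with
  | base => rfl
  | succ n hn ih =>
    rw [pUp, bitAt_eq, Nat.testBit_lt_two_pow (h.trans_le (Nat.pow_le_pow_right two_pos hn)), ih]
    rfl

theorem pr_top {c j : ℕ} (hj : j < 12) (hc : c < 2 ^ j) : pr hσ (2 ^ j + c) = pr hσ c * gg hσ j := by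
  have hlt : 2 ^ j + c < 2 ^ (j + 1) := by rw [pow_succ]; omega
  have hlow : ∀ n, n ≤ j → pUp hσ n (2 ^ j + c) = pUp hσ n c := by
    intro n
    induction n with
    | zero => intro _; rfl
    | succ n ih =>
      intro hn
      rw [pUp, pUp, bitAt_eq, bitAt_eq, Nat.testBit_two_pow_add_gt (by omega) c, ih (by omega)]
  rw [pr, pr, pUp_stable hσ hlt 12 (by omega), pUp_stable hσ hc 12 (by omega), pUp, bitAt_eq,
    Nat.testBit_two_pow_add_eq, Nat.testBit_lt_two_pow hc, Bool.not_false, if_pos rfl, hlow j le_rfl]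

theorem pr_two_pow {j : ℕ} (hj : j < 12) : pr hσ (2 ^ j) = gg hσ j := by
  have h := pr_top hσ hj (c := 0) (Nat.two_pow_pos _)
  rwa [Nat.add_zero, pr_zero, one_mul] at h

theorem OK_pUp : ∀ n ≤ 12, ∀ c, OK (pMUp n c) (pUp hσ n c : GG)
  | 0, _, _ => OK_one'
  | n + 1, hn, c => by
    rw [pMUp, pUp]
    cases bitAt c n
    · exact OK_pUp n (by omega) c
    · exact OK_mul (OK_pUp n (by omega) c) (OK_gg hσ (by omega))

theorem OK_pr (c : ℕ) : OK (pMUp 12 c) (pr hσ c : GG) := OK_pUp hσ 12 le_rfl c

/-- the table of right multiplication by a generator is right -/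
def RGood (i : ℕ) : Prop := ∀ c < 4096, pr hσ (Rf i c) = pr hσ c * gg hσ i

theorem mulFrom_spec (d : ℕ) : ∀ f i, i + f ≤ 12 → (∀ k, i ≤ k → k < i + f → d.testBit k = true → RGood hσ k) →
    ∀ c < 4096, mulFrom f i c d < 4096 ∧
      pr hσ (mulFrom f i c d) = pr hσ c * ((pUp hσ i d)⁻¹ * pUp hσ (i + f) d) := by
  intro f
  induction f with
  | zero => intro i _ _ c hc; exact ⟨hc, by simp [mulFrom]⟩
  | succ f ih =>
    intro i hi hg c hc
    rw [mulFrom, bitAt_eq]
    cases hb : d.testBit i
    · obtain ⟨h1, h2⟩ := ih (i + 1) (by omega) (fun k a b => hg k (by omega) (by omega)) c hc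
      refine ⟨h1, ?_⟩
      simp only [cond_false]
      rw [h2, show i + 1 + f = i + (f + 1) by omega]
      congr 2
      rw [pUp, bitAt_eq, hb]; rfl
    · obtain ⟨h1, h2⟩ := ih (i + 1) (by omega) (fun k a b => hg k (by omega) (by omega)) (Rf i c) (ent_lt _ _)
      refine ⟨h1, ?_⟩
      simp only [cond_true]
      rw [h2, hg i le_rfl (by omega) hb c hc, show i + 1 + f = i + (f + 1) by omega, pUp, bitAt_eq, hb,
        if_pos rfl]
      group

theorem mulc_spec_of {c d : ℕ} (hc : c < 4096) (hg : ∀ k < 12, d.testBit k = true → RGood hσ k) :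
    mulc c d < 4096 ∧ pr hσ (mulc c d) = pr hσ c * pr hσ d := by
  obtain ⟨h1, h2⟩ := mulFrom_spec hσ d 12 0 le_rfl (fun k _ h => hg k (by omega)) c hc
  refine ⟨h1, ?_⟩
  rw [mulc, h2, pr, pr, pUp, inv_one, one_mul]

theorem rGood : ∀ i < 12, RGood hσ i := by
  suffices key : ∀ n i, i < 12 → 12 ≤ i + n → RGood hσ i from fun i hi => key 12 i hi (by omega)
  intro n
  induction n with
  | zero => intro i h1 h2; omega
  | succ n ih =>
    intro i hi hin c
    have hrec : ∀ k < 12, i < k → RGood hσ k := fun k hk hik => ih k hk (by omega)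
    obtain ⟨hz, hstep⟩ := Bool.and_eq_true_iff.1 (rOK_all i hi)
    have hrels := relsOK_eq
    simp only [relsOK, List.all_eq_true, List.mem_range] at hrels
    induction c using Nat.strong_induction_on with
    | _ c ihc =>
      intro hc
      by_cases h0 : c = 0
      · subst h0
        rw [Nat.eq_of_beq_eq_true hz, pr_zero, one_mul, pr_two_pow hσ hi]
      obtain ⟨j, hj, c', hc', rfl⟩ := split_code h0 hc
      have e := Nat.eq_of_beq_eq_true (allNat_iff.1 (allNat_iff.1 hstep j hj) c' hc')
      rw [e, Rexp]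
      rcases Nat.lt_trichotomy j i with hji | rfl | hji
      · rw [show Nat.blt j i = true from by rw [Nat.blt_eq]; exact hji, cond_true]
        have : 2 ^ j + c' < 2 ^ i := by
          have : 2 ^ (j + 1) ≤ 2 ^ i := Nat.pow_le_pow_right two_pos hji
          rw [pow_succ] at this; omega
        rw [show 2 ^ j + c' + 2 ^ i = 2 ^ i + (2 ^ j + c') by omega, pr_top hσ hi this]
      · have h := hrels j hj j hj
        have hjj : Nat.blt j j = false := by
          cases hb : Nat.blt j j
          · rfl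
          · rw [Nat.blt_eq] at hb; omega
        simp only [hjj, Bool.false_or, Bool.and_eq_true, Nat.blt_eq,
          Nat.beq_eq, show Nat.beq j j = true from Nat.beq_refl j, cond_true] at h
        rw [hjj, cond_false, show Nat.beq j j = true from Nat.beq_refl j,
          cond_true]
        obtain ⟨⟨hW, hlow⟩, hM⟩ := h
        have hk : ∀ k < 12, (Wc j j).testBit k = true → RGood hσ k := fun k hk hb => hrec k hk (by
          by_contra hle
          have hm := Nat.testBit_mod_two_pow (Wc j j) (j + 1) k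
          rw [hlow, Nat.zero_testBit, decide_eq_true (by omega), Bool.true_and, hb] at hm
          exact Bool.noConfusion hm)
        have e2 : gg hσ j * gg hσ j = pr hσ (Wc j j) :=
          eq_of_ok (OK_mul (OK_gg hσ hj) (OK_gg hσ hj)) (OK_pr hσ _) hM
        rw [(mulc_spec_of hσ (by omega) hk).2, pr_top hσ hj hc', mul_assoc, e2]
      · have hne : Nat.beq j i = false := by
          cases h : Nat.beq j i
          · rfl
          · exact absurd (Nat.eq_of_beq_eq_true h) (by omega)
        have hblt : Nat.blt j i = false := by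
          cases h : Nat.blt j i
          · rfl
          · rw [Nat.blt_eq] at h; omega
        have h := hrels j hj i hi
        simp only [hblt, Bool.false_or, Bool.and_eq_true, Nat.blt_eq, Nat.beq_eq, hne, cond_false] at h
        obtain ⟨⟨hW, hlow⟩, hM⟩ := h
        rw [hblt, cond_false, hne, cond_false]
        have hk : ∀ k < 12, (Wc j i).testBit k = true → RGood hσ k := fun k hk hb => hrec k hk (by
          by_contra hle
          have hm := Nat.testBit_mod_two_pow (Wc j i) (i + 1) k
          rw [hlow, Nat.zero_testBit, decide_eq_true (by omega), Bool.true_and, hb] at hm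
          exact Bool.noConfusion hm)
        have e2 : gg hσ j * gg hσ i = gg hσ i * pr hσ (Wc j i) :=
          eq_of_ok (OK_mul (OK_gg hσ hj) (OK_gg hσ hi)) (OK_mul (OK_gg hσ hi) (OK_pr hσ _)) hM
        rw [(mulc_spec_of hσ (c := Rf i c') (ent_lt _ _) hk).2,
          ihc c' (by have := Nat.two_pow_pos j; omega) (by omega), pr_top hσ hj hc', mul_assoc, ← e2, mul_assoc]

theorem mulc_spec {c : ℕ} (hc : c < 4096) (d : ℕ) : mulc c d < 4096 ∧ pr hσ (mulc c d) = pr hσ c * pr hσ d :=
  mulc_spec_of hσ hc fun k hk _ => rGood hσ k hk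

theorem lGood : ∀ i < 12, ∀ c < 4096, pr hσ (Lf i c) = gg hσ i * pr hσ c := by
  intro i hi c
  obtain ⟨hz, hstep⟩ := Bool.and_eq_true_iff.1 (lOK_all i hi)
  induction c using Nat.strong_induction_on with
  | _ c ihc =>
    intro hc
    by_cases h0 : c = 0
    · subst h0
      rw [Nat.eq_of_beq_eq_true hz, pr_zero, mul_one, pr_two_pow hσ hi]
    obtain ⟨j, hj, c', hc', rfl⟩ := split_code h0 hc
    have e := Nat.eq_of_beq_eq_true (allNat_iff.1 (allNat_iff.1 hstep j hj) c' hc')
    rw [e, rGood hσ j hj (Lf i c') (ent_lt _ _), ihc c' (by have := Nat.two_pow_pos j; omega) (by omega),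
      pr_top hσ hj hc', mul_assoc]

end

end CfsgLib.ReeF4Square.Tits
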