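import Cfsg.Agent.Lib.ReeF4Square.TitsMat

/-!
2F4(2): kernel checks of the multiplication tables of the unipotent group.
-/

set_option autoImplicit false
set_option linter.unusedSectionVars false
set_option maxRecDepth 100000
set_option maxHeartbeats 4000000

namespace CfsgLib.ReeF4Square.Tits

open Cfsg.Lie CfsgLib.Chev CfsgLib.ReeF4 CfsgLib.ReeF4Out CfsgLib.ReeF4Tits CfsgLib.ReeF4Square.TitsData
open CfsgLib.TitsTTW (GG)
open CfsgLib.TitsSchur (OK)

variable {σ : MulAut ↥(chevF4.group (ZMod 2))}

/-- a twelve-bit entry of a packed table -/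
def ent (T c : ℕ) : ℕ := Nat.land (Nat.shiftRight T (12 * c)) 4095

/-- a bit -/
def bitAt (d i : ℕ) : Bool := Nat.beq (Nat.land (Nat.shiftRight d i) 1) 1

theorem bitAt_eq (d i : ℕ) : bitAt d i = d.testBit i := by
  have h : Nat.land (Nat.shiftRight d i) 1 = (d >>> i) &&& 1 := rfl
  rw [bitAt, h, Nat.and_one_is_mod, Nat.testBit_eq_decide_div_mod_eq, Nat.shiftRight_eq_div_pow]
  rcases Nat.mod_two_eq_zero_or_one (d / 2 ^ i) with e | e <;> rw [e] <;> rfl

theorem ent_lt (T c : ℕ) : ent T c < 4096 := Nat.lt_succ_of_le Nat.and_le_right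

/-- right multiplication -/
def Rf (i c : ℕ) : ℕ := ent (rTab.getD i 0) c

/-- left multiplication -/
def Lf (i c : ℕ) : ℕ := ent (lTab.getD i 0) c

/-- multiplication of codes, letter by letter -/
def mulFrom : ℕ → ℕ → ℕ → ℕ → ℕ
  | 0, _, c, _ => c
  | f + 1, i, c, d => mulFrom f (i + 1) (bif bitAt d i then Rf i c else c) d

/-- multiplication of codes -/
def mulc (c d : ℕ) : ℕ := mulFrom 12 0 c d

/-- the matrix of a code -/
def pMUp : ℕ → ℕ → List ℕ
  | 0, _ => CfsgLib.TitsSchur.one
  | n + 1, c => bif bitAt c n then CfsgLib.TitsSchur.mul (pMUp n c) (gM n) else pMUp n c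

/-- the code of a relation -/
def Wc (j i : ℕ) : ℕ := (relW.getD j []).getD i 0

/-- the relations hold -/
def relsOK : Bool :=
  (List.range 12).all fun j => (List.range 12).all fun i => Nat.blt j i ||
    (Nat.blt (Wc j i) 4096 && Nat.beq (Wc j i % 2 ^ (i + 1)) 0 &&
      bif Nat.beq j i then CfsgLib.TitsSchur.mul (gM i) (gM i) == pMUp 12 (Wc i i)
      else CfsgLib.TitsSchur.mul (gM j) (gM i) == CfsgLib.TitsSchur.mul (gM i) (pMUp 12 (Wc j i)))

theorem relsOK_eq : relsOK = true := by decide +kernel

/-- the entry expected in the right table -/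
def Rexp (i j c : ℕ) : ℕ :=
  bif Nat.blt j i then 2 ^ j + c + 2 ^ i
  else bif Nat.beq j i then mulc c (Wc i i) else mulc (Rf i c) (Wc j i)

/-- one right table is right -/
noncomputable def rOK (i : ℕ) : Bool :=
  Nat.beq (Rf i 0) (2 ^ i) && allNat 12 fun j => allNat (2 ^ j) fun c => Nat.beq (Rf i (2 ^ j + c)) (Rexp i j c)

/-- one left table is right -/
noncomputable def lOK (i : ℕ) : Bool :=
  Nat.beq (Lf i 0) (2 ^ i) && allNat 12 fun j => allNat (2 ^ j) fun c =>
    Nat.beq (Lf i (2 ^ j + c)) (Rf j (Lf i c))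

theorem rOK_0 : rOK 0 = true := by decide +kernel
theorem rOK_1 : rOK 1 = true := by decide +kernel
theorem rOK_2 : rOK 2 = true := by decide +kernel
theorem rOK_3 : rOK 3 = true := by decide +kernel
theorem rOK_4 : rOK 4 = true := by decide +kernel
theorem rOK_5 : rOK 5 = true := by decide +kernel
theorem rOK_6 : rOK 6 = true := by decide +kernel
theorem rOK_7 : rOK 7 = true := by decide +kernel
theorem rOK_8 : rOK 8 = true := by decide +kernel
theorem rOK_9 : rOK 9 = true := by decide +kernel
theorem rOK_10 : rOK 10 = true := by decide +kernel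
theorem rOK_11 : rOK 11 = true := by decide +kernel
theorem lOK_0 : lOK 0 = true := by decide +kernel
theorem lOK_1 : lOK 1 = true := by decide +kernel
theorem lOK_2 : lOK 2 = true := by decide +kernel
theorem lOK_3 : lOK 3 = true := by decide +kernel
theorem lOK_4 : lOK 4 = true := by decide +kernel
theorem lOK_5 : lOK 5 = true := by decide +kernel
theorem lOK_6 : lOK 6 = true := by decide +kernel
theorem lOK_7 : lOK 7 = true := by decide +kernel
theorem lOK_8 : lOK 8 = true := by decide +kernel
theorem lOK_9 : lOK 9 = true := by decide +kernel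
theorem lOK_10 : lOK 10 = true := by decide +kernel
theorem lOK_11 : lOK 11 = true := by decide +kernel

theorem rOK_all : ∀ i < 12, rOK i = true := by
  intro i hi
  interval_cases i <;> first
    | exact rOK_0 | exact rOK_1 | exact rOK_2 | exact rOK_3 | exact rOK_4 | exact rOK_5
    | exact rOK_6 | exact rOK_7 | exact rOK_8 | exact rOK_9 | exact rOK_10 | exact rOK_11

theorem lOK_all : ∀ i < 12, lOK i = true := by
  intro i hi
  interval_cases i <;> first
    | exact lOK_0 | exact lOK_1 | exact lOK_2 | exact lOK_3 | exact lOK_4 | exact lOK_5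
    | exact lOK_6 | exact lOK_7 | exact lOK_8 | exact lOK_9 | exact lOK_10 | exact lOK_11

end CfsgLib.ReeF4Square.Tits
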